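import Cfsg.Agent.Spor.Fi14080.D0

set_option autoImplicit false
set_option maxRecDepth 100000000
set_option Elab.async false

namespace Cfsg.Agent.Spor.Fi14080

theorem ok0 : Net.okb 14 n0 = true := by decide +kernel

theorem ok1 : Net.okb 14 n1 = true := by decide +kernel

theorem ok2 : Net.okb 14 n2 = true := by decide +kernel

theorem ok3 : Net.okb 14 n3 = true := by decide +kernel

theorem ok4 : Net.okb 14 n4 = true := by decide +kernel

theorem ok5 : Net.okb 14 n5 = true := by decide +kernel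

theorem ok6 : Net.okb 14 n6 = true := by decide +kernel

theorem ok7 : Net.okb 14 n7 = true := by decide +kernel

theorem ok8 : Net.okb 14 n8 = true := by decide +kernel

theorem ok9 : Net.okb 14 n9 = true := by decide +kernel

theorem ok10 : Net.okb 14 n10 = true := by decide +kernel

theorem rel0 : T.rel 14 [1, 1] 0 14 = true := by decide +kernel

theorem rel1 : T.rel 14 [2, 2] 0 14 = true := by decide +kernel

theorem rel2 : T.rel 14 [3, 3] 0 14 = true := by decide +kernel

theorem rel3 : T.rel 14 [4, 4] 0 14 = true := by decide +kernel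

theorem rel4 : T.rel 14 [5, 5] 0 14 = true := by decide +kernel

theorem rel5 : T.rel 14 [6, 6] 0 14 = true := by decide +kernel

theorem rel6 : T.rel 14 [7, 7] 0 14 = true := by decide +kernel

theorem rel7 : T.rel 14 [8, 8] 0 14 = true := by decide +kernel

theorem rel8 : T.rel 14 [9, 9] 0 14 = true := by decide +kernel

theorem rel9 : T.rel 14 [10, 4, 3, 2, 4, 5, 6, 4, 8, 9] 0 14 = true := by decide +kernel

theorem rel10 : T.rel 14 [12, 1, 2, 3, 4, 5, 6, 8] 0 14 = true := by decide +kernel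

theorem rel11 : T.rel 14 [2, 1, 2, 1, 2, 1] 0 14 = true := by decide +kernel

theorem rel12 : T.rel 14 [3, 1, 3, 1] 0 14 = true := by decide +kernel

theorem rel13 : T.rel 14 [4, 1, 4, 1] 0 14 = true := by decide +kernel

theorem rel14 : T.rel 14 [5, 1, 5, 1] 0 14 = true := by decide +kernel

theorem rel15 : T.rel 14 [6, 1, 6, 1] 0 14 = true := by decide +kernel

theorem rel16 : T.rel 14 [7, 1, 7, 1] 0 14 = true := by decide +kernel

theorem rel17 : T.rel 14 [8, 1, 8, 1] 0 14 = true := by decide +kernel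

theorem rel18 : T.rel 14 [9, 1, 9, 1] 0 14 = true := by decide +kernel

theorem rel19 : T.rel 14 [3, 2, 3, 2, 3, 2] 0 14 = true := by decide +kernel

theorem rel20 : T.rel 14 [4, 2, 4, 2] 0 14 = true := by decide +kernel

theorem rel21 : T.rel 14 [5, 2, 5, 2] 0 14 = true := by decide +kernel

theorem rel22 : T.rel 14 [6, 2, 6, 2] 0 14 = true := by decide +kernel

theorem rel23 : T.rel 14 [7, 2, 7, 2] 0 14 = true := by decide +kernel

theorem rel24 : T.rel 14 [8, 2, 8, 2] 0 14 = true := by decide +kernel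

theorem rel25 : T.rel 14 [9, 2, 9, 2] 0 14 = true := by decide +kernel

theorem rel26 : T.rel 14 [4, 3, 4, 3, 4, 3] 0 14 = true := by decide +kernel

theorem rel27 : T.rel 14 [5, 3, 5, 3] 0 14 = true := by decide +kernel

theorem rel28 : T.rel 14 [6, 3, 6, 3] 0 14 = true := by decide +kernel

theorem rel29 : T.rel 14 [7, 3, 7, 3] 0 14 = true := by decide +kernel

theorem rel30 : T.rel 14 [8, 3, 8, 3] 0 14 = true := by decide +kernel

theorem rel31 : T.rel 14 [9, 3, 9, 3] 0 14 = true := by decide +kernel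

theorem rel32 : T.rel 14 [5, 4, 5, 4, 5, 4] 0 14 = true := by decide +kernel

theorem rel33 : T.rel 14 [6, 4, 6, 4] 0 14 = true := by decide +kernel

theorem rel34 : T.rel 14 [7, 4, 7, 4] 0 14 = true := by decide +kernel

theorem rel35 : T.rel 14 [8, 4, 8, 4, 8, 4] 0 14 = true := by decide +kernel

theorem rel36 : T.rel 14 [9, 4, 9, 4] 0 14 = true := by decide +kernel

theorem rel37 : T.rel 14 [6, 5, 6, 5, 6, 5] 0 14 = true := by decide +kernel

theorem rel38 : T.rel 14 [7, 5, 7, 5] 0 14 = true := by decide +kernel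

theorem rel39 : T.rel 14 [8, 5, 8, 5] 0 14 = true := by decide +kernel

theorem rel40 : T.rel 14 [9, 5, 9, 5] 0 14 = true := by decide +kernel

theorem rel41 : T.rel 14 [7, 6, 7, 6, 7, 6] 0 14 = true := by decide +kernel

theorem rel42 : T.rel 14 [8, 6, 8, 6] 0 14 = true := by decide +kernel

theorem rel43 : T.rel 14 [9, 6, 9, 6] 0 14 = true := by decide +kernel

theorem rel44 : T.rel 14 [8, 7, 8, 7] 0 14 = true := by decide +kernel

theorem rel45 : T.rel 14 [9, 7, 9, 7] 0 14 = true := by decide +kernel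

theorem rel46 : T.rel 14 [9, 8, 9, 8, 9, 8] 0 14 = true := by decide +kernel

theorem rel47 : T.rel 14 [10, 10, 10, 10, 10, 10, 10, 10, 10, 10] 0 14 = true := by decide +kernel

theorem rel48 : T.rel 14 [12, 12, 12, 12, 12, 12, 12, 12, 12] 0 14 = true := by decide +kernel

theorem rel49 : T.rel 14 [8, 7, 6, 5, 4, 3, 2, 8, 7, 6, 5, 4, 3, 2, 8, 7, 6, 5, 4, 3, 2, 8, 7, 6, 5, 4, 3, 2, 8, 7, 6, 5, 4, 3, 2, 8, 7, 6, 5, 4, 3, 2, 8, 7, 6, 5, 4, 3, 2, 8, 7, 6, 5, 4, 3, 2, 8, 7, 6, 5, 4, 3, 2] 0 14 = true := by decide +kernel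

theorem hcov : T.treeCov (ones 14080) L 1 = true := by decide +kernel

theorem hg : lall (fun z => band (memL L z) (band (sub (ones 14080) (T.let z).cl) (T.closed (ones 14080) z))) gs = true := by decide +kernel

theorem hivk : ivOk (2 * 9) EX IV = true := by decide +kernel

theorem hrt : RT.ok (2 * 9) EX RL = true := by decide +kernel

theorem hdefs : defs F 559 = true := by decide +kernel

noncomputable def st0_l : List Nat := [nat_lit 0x3ff, nat_lit 0x3ff, nat_lit 0x3ff, nat_lit 0x3ff, nat_lit 0x3ff, nat_lit 0x3ff, nat_lit 0x3ff, nat_lit 0x23080000403, nat_lit 0x23180000403, nat_lit 0x23280000403, nat_lit 0x23380000403, nat_lit 0x23480000403, nat_lit 0x23580000403, nat_lit 0x8000000045f0000080000c05, nat_lit 0x22f801184008c600465002338011a407, nat_lit 0x10000060000200000c000040000100000007, nat_lit 0x20023780000c03, nat_lit 0x20023880000c03, nat_lit 0x20023980000c03, nat_lit 0x20023a80000c03, nat_lit 0x20023b80000c03, nat_lit 0x10000040046d0000180001405, nat_lit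 0x478000010011b4008de00471002398011d407, nat_lit 0x40023c80001403, nat_lit 0x40024080001403, nat_lit 0x40024180001403, nat_lit 0x40024280001403, nat_lit 0x40024380001403, nat_lit 0x18000080047f0000280001c05, nat_lit 0x48c00244000010008fe004810024180121407, nat_lit 0x60024680001c03, nat_lit 0x60024480001c03, nat_lit 0x60024880001c03, nat_lit 0x60024a80001c03, nat_lit 0x200000c0048f0000380002405, nat_lit 0x280000c004930000380002c05, nat_lit 0x49a0024e0012580000c0048f0024880124c07, nat_lit 0x80024d80002403, nat_lit 0x80024e80002403, nat_lit 0x80024b80002403, nat_lit 0xe0000400002c03, nat_lit 0x80025080002403, nat_lit 0x30000100049f0000480003405, nat_lit 0xa0024f80002c03, nat_lit 0x340001200006800024004af0025a00002807, nat_lit 0xc0025480003403, nat_lit 0xc0025580003403, nat_lit 0xc0025680003403, nat_lit 0xc0025180003403, nat_lit 0x100000600003c03, nat_lit 0xc0025880003403, nat_lit 0xe0025480003c03, nat_lit 0xe0025580003c03, nat_lit 0xe0025680003c03, nat_lit 0x480001c004a30000780004c05,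 nat_lit 0x500001c004b10000780005405, nat_lit 0x100025c80004403, nat_lit 0x100025d80004403, nat_lit 0x100025e80004403, nat_lit 0x100025980004403, nat_lit 0x5800020004bf0000880005c05, nat_lit 0x6000020004c30000880006405, nat_lit 0x120026280004c03, nat_lit 0x120026380004c03, nat_lit 0x120026000005c03, nat_lit 0x1c0000900005403, nat_lit 0x6800024004c90000980006c05, nat_lit 0x480095e004a50025700004c05, nat_lit 0x160026780005c03, nat_lit 0x160026880005c03, nat_lit 0x220000b00006403, nat_lit 0x780002c004d30000b80007c05, nat_lit 0x800002c004d50000b80008405, nat_lit 0x1a0026d80006c03, nat_lit 0x1a0027280006c03, nat_lit 0x1a0026f80007c03, nat_lit 0x1a0026580006c03, nat_lit 0x260000d00007403, nat_lit 0x9000034004dd0000d80009405, nat_lit 0x1e0027380007c03, nat_lit 0x2c0000f00008403, nat_lit 0x1e0026b80007c03, nat_lit 0x2e0000f00008c03, nat_lit 0xa80003c004e90000f8000ac05, nat_lit 0x200027380008403, nat_lit 0x200027480008403, nat_lit 0x200026b80008403, nat_lit 0x300001000008c03,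 nat_lit 0x80009bc004e50026f80008405, nat_lit 0x50a002870000800002c004d30026880133c07, nat_lit 0x240027180009403, nat_lit 0x240027980009403, nat_lit 0x240027a8000ac03, nat_lit 0x240027b80009403, nat_lit 0x360001200009c03, nat_lit 0xd000048004f1000128000d405, nat_lit 0x280027c0000e403, nat_lit 0xa0009c2004cd002700000a405, nat_lit 0x2a002768000ac03, nat_lit 0x3c000150000b403, nat_lit 0x2a002808000ac03, nat_lit 0x3e000150000bc03, nat_lit 0xe800054004fd000158000ec05, nat_lit 0x2c0027e8000b403, nat_lit 0x10000058004ed0001680010405, nat_lit 0xb0009e8004f30027a8000b405, nat_lit 0x300027f00010c03, nat_lit 0x320028100011403, nat_lit 0x320028600011c03, nat_lit 0xc8009d6004d9002750000cc05, nat_lit 0x340027d8000d403, nat_lit 0x34002898000d403, nat_lit 0x340028a8000d403, nat_lit 0x340028b8000ec03, nat_lit 0x340028c8000d403, nat_lit 0x480001a0000dc03, nat_lit 0x360027d8000dc03, nat_lit 0x36002898000dc03, nat_lit 0x360028a8000dc03, nat_lit 0x360028b8000fc03, nat_lit 0x380028d00012c03,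 nat_lit 0x3a002828000ec03, nat_lit 0x3a002918000ec03, nat_lit 0x4e0001d0000f403, nat_lit 0x3a002938000ec03, nat_lit 0x3c002828000f403, nat_lit 0x3c002938000f403, nat_lit 0x540001e0000fc03, nat_lit 0x14800078005230001e80014c05, nat_lit 0xf000a2c005150028b8000f405, nat_lit 0x400029680010403, nat_lit 0x400029200014c03, nat_lit 0x400029880010403, nat_lit 0x5a0002000010c03, nat_lit 0x100009fe004ef0027f00010405, nat_lit 0x58002b30014b800080004ff0028480141c07, nat_lit 0x420029680010c03, nat_lit 0x420029200015403, nat_lit 0x440029400015c03, nat_lit 0x460029980017403, nat_lit 0x480028e80012403, nat_lit 0x480029d80012403, nat_lit 0x480029e80012403, nat_lit 0x48002a080014403, nat_lit 0x4a002a200018c03, nat_lit 0x4a002a380012c03, nat_lit 0x4a002a580012c03, nat_lit 0x4a002a680015c03, nat_lit 0x19000094005490002580019405, nat_lit 0x4c002a780019403, nat_lit 0x13000a3c005210028f80013405, nat_lit 0x4e0029580013c03, nat_lit 0x4e002a880013c03, nat_lit 0x4e002ab80013c03, nat_lit 0x680002700014403,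 nat_lit 0x1980009c005530002780019c05, nat_lit 0x13800a800053f002a080013c05, nat_lit 0x52002aa00019c03, nat_lit 0x52002b080014c03, nat_lit 0x700002900015403, nat_lit 0x1b8000a40055b000298001bc05, nat_lit 0x54002aa0001a403, nat_lit 0x54002ac80015403, nat_lit 0x54002b080015403, nat_lit 0x56002ae0001cc03, nat_lit 0x58002b180016403, nat_lit 0x58002b28001bc03, nat_lit 0x258000ec000580002d8001e405, nat_lit 0x5a002b28001c403, nat_lit 0x5a002b580016c03, nat_lit 0x5c002b780017403, nat_lit 0x5c002b88001cc03, nat_lit 0x1e8000b8005680003c80026405, nat_lit 0x5e002b98001d403, nat_lit 0x17800a68005390029a80017c05, nat_lit 0x1f0000c0005750003d80026c05, nat_lit 0x18000a6c005390029b80018405, nat_lit 0x62002bb80018c03, nat_lit 0x62002bc80018c03, nat_lit 0x62002be8001ac03, nat_lit 0x1f8000c40057b000318001fc05, nat_lit 0x64002bf8001fc03, nat_lit 0x64002c28001d403, nat_lit 0x200000c8005810003280020405, nat_lit 0x208000c8005830003280020c05, nat_lit 0x66002c680019c03, nat_lit 0x66002cb80019c03,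 nat_lit 0x84000330001a403, nat_lit 0x68002c68001a403, nat_lit 0x68002c78001a403, nat_lit 0x218000d0005910003480021c05, nat_lit 0x6a002c900021c03, nat_lit 0x6c002af8001b403, nat_lit 0x8a000360001c403, nat_lit 0x1b000ac80056b002b28001b405, nat_lit 0x6e002af8001bc03, nat_lit 0x6e002cd8001bc03, nat_lit 0x2a8001180006e0003880023c05, nat_lit 0x70002cc80021403, nat_lit 0x72002d080021c03, nat_lit 0x72002d18001cc03, nat_lit 0x72002d28001cc03, nat_lit 0x240000e40059c000478002b405, nat_lit 0x250000e8005a7000488002c405, nat_lit 0x76002d580023403, nat_lit 0x78002d780023c03, nat_lit 0x78002d88001e403, nat_lit 0x7a002d98001ec03, nat_lit 0x7a002da80024403, nat_lit 0x7c002df8001f403, nat_lit 0x7e002e08001fc03, nat_lit 0x7e002e280022403, nat_lit 0x80002e580024c03, nat_lit 0x20000b100058b002c480020405, nat_lit 0x82002c380020c03, nat_lit 0x28000104005cb0004a8002d405, nat_lit 0x84002e880021403, nat_lit 0x84002ca80021403, nat_lit 0x84002e980021403, nat_lit 0x86002eb80021c03, nat_lit 0x2900010c005d40005180030405,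 nat_lit 0x29800110005dd0005280031405, nat_lit 0x8a002f180022c03, nat_lit 0x8a002ef80022c03, nat_lit 0x8c002cf80023403, nat_lit 0x8c002f280023403, nat_lit 0x8c002f380023403, nat_lit 0x8e002f580028c03, nat_lit 0x8e002f00002a403, nat_lit 0x90002f680029403, nat_lit 0x90002f880024403, nat_lit 0x2b800120005ef000488002bc05, nat_lit 0xb20004900025403, nat_lit 0x24800b70005bb002dc80024c05, nat_lit 0x96002fb8002ac03, nat_lit 0x98002d60002dc03, nat_lit 0x9a002db8002e403, nat_lit 0x9c002fe80027403, nat_lit 0x9c002ff8002c403, nat_lit 0x9c002db8002ec03, nat_lit 0x9e002de8002f403, nat_lit 0x9e0030080027c03, nat_lit 0xa20030780028c03, nat_lit 0xa20030980184400baa005d9002eb80168007, nat_lit 0xa40030a80029403, nat_lit 0xa4002ed80029403, nat_lit 0xa80030d8002a403, nat_lit 0xa80030e8002a403, nat_lit 0xaa003108002ac03, nat_lit 0xaa003118002ac03, nat_lit 0x320001540061f0005580032405, nat_lit 0xac0031280030403, nat_lit 0xac002f400032403, nat_lit 0x32800158006270006380038c05, nat_lit 0xae0031480030c03,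 nat_lit 0xce000570002c403, nat_lit 0xae003158002bc03, nat_lit 0xae002f980032c03, nat_lit 0xb2003188002cc03, nat_lit 0xb4002fa80034403, nat_lit 0xb60031980032403, nat_lit 0xb80031a80035403, nat_lit 0xbc0031b80035c03, nat_lit 0xbe0031c8002fc03, nat_lit 0xbe0031d80034403, nat_lit 0xbe0031e80036403, nat_lit 0xc00032180030403, nat_lit 0xe00006100031403, nat_lit 0xc20030b80037403, nat_lit 0xc20032480030c03, nat_lit 0x37800184006470006180037c05, nat_lit 0xc60032580031c03, nat_lit 0x3900018c0064d0006380039405, nat_lit 0xc80032880032403, nat_lit 0x3a0001900064f000648003a405, nat_lit 0xca0032a80037403, nat_lit 0xca0032b80039c03, nat_lit 0xcc0031680033403, nat_lit 0xf00006600033c03, nat_lit 0xcc003308003ac03, nat_lit 0x3b8001980065b0006f8003fc05, nat_lit 0xce0032d80038403, nat_lit 0xce003308003b403, nat_lit 0xd00032e0003d403, nat_lit 0xd20033180034c03, nat_lit 0x34800c5e005f50032e0003cc05, nat_lit 0x3d8001a8006670007380041c05, nat_lit 0xd6003348003dc03, nat_lit 0x6710006c0002e800130005fb002fc80189407,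 nat_lit 0xda003358003e403, nat_lit 0x36800c7c006410031f80036c05, nat_lit 0x3e8001b8006730006e8003ec05, nat_lit 0x1000006f00038403, nat_lit 0xde0033b8003ec03, nat_lit 0xe00033b8003f403, nat_lit 0xe00033c80038403, nat_lit 0x1040007100039403, nat_lit 0x408001c40067d0007180040c05, nat_lit 0x108000730003a403, nat_lit 0xe60034080039c03, nat_lit 0xe60032980039c03, nat_lit 0xea0032c80040c03, nat_lit 0xea0034380041c03, nat_lit 0xec003428003f403, nat_lit 0xec0034380042403, nat_lit 0x430001d8006590008280049c05, nat_lit 0xee003448003bc03, nat_lit 0x110000770003c403, nat_lit 0xee0034680042c03, nat_lit 0xf20034500044c03, nat_lit 0x458001e400693000868004d405, nat_lit 0xf40034500045403, nat_lit 0xf40034980043c03, nat_lit 0xf80034e80046403, nat_lit 0xfe0033d8003fc03, nat_lit 0x1200007f00040403, nat_lit 0xfe0035480047403, nat_lit 0x1000033d80040403, nat_lit 0x1240008100041403, nat_lit 0x12c0008300042403, nat_lit 0x1060035a80041c03, nat_lit 0x1060035b80041c03, nat_lit 0x10a0035c80048c03,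 nat_lit 0x10a0035d8004ac03, nat_lit 0x10c0035e80047c03, nat_lit 0x10e0035f8004c403, nat_lit 0x1100034780048403, nat_lit 0x110003638004cc03, nat_lit 0x4d800220006c3000888004dc05, nat_lit 0x112003620004dc03, nat_lit 0x114003620004e403, nat_lit 0x1180034d8004b403, nat_lit 0x11a003688004ec03, nat_lit 0x46800d40006a30035080046c05, nat_lit 0x1200036980048403, nat_lit 0x1200036b8004fc03, nat_lit 0x1220035880048c03, nat_lit 0x1400009100049403, nat_lit 0x1240035880049403, nat_lit 0x1260036d00050c03, nat_lit 0x49800d5e0067f0035700049c05, nat_lit 0x1280036d00051403, nat_lit 0x14a000950004b403, nat_lit 0x12a0036f8004ac03, nat_lit 0x12a003708004ac03, nat_lit 0x12c003708004b403, nat_lit 0x53800258006df0009680053c05, nat_lit 0x12e0036e00053403, nat_lit 0x4b800d6600683003590004bc05, nat_lit 0x1300036e00053c03, nat_lit 0x1320037280052c03, nat_lit 0x54800264006e3000a080056c05, nat_lit 0x1340036080052403, nat_lit 0x1380037680055403, nat_lit 0x55800274006f5000a68005ac05, nat_lit 0x13c0037c8004f403,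 nat_lit 0x13c0037b80055c03, nat_lit 0x1400037f80050403, nat_lit 0x1420038000056c03, nat_lit 0x160000a100051403, nat_lit 0x5780028400703000a180057c05, nat_lit 0x1440038000057403, nat_lit 0x1460038280058403, nat_lit 0x164000a300052403, nat_lit 0x14a0038780052c03, nat_lit 0x5a0002940070d000a58005a405, nat_lit 0x14c0038500059c03, nat_lit 0x16c000a600053c03, nat_lit 0x14e003850005a403, nat_lit 0x14e0038880053c03, nat_lit 0x1500038a8005bc03, nat_lit 0x170000a900055403, nat_lit 0x1540038d8005a403, nat_lit 0x176000ad00057403, nat_lit 0x15c0039480057403, nat_lit 0x178000af00058403, nat_lit 0x57800e08007070038280057c05, nat_lit 0x160003958005dc03, nat_lit 0x162003998005ec03, nat_lit 0x17e000b30005a403, nat_lit 0x16a0039d8005f403, nat_lit 0x182000b50005b403, nat_lit 0x184000b50005bc03, nat_lit 0x5a800e28007170038a8005ac05, nat_lit 0x16e0039d80060403, nat_lit 0x618002e400723000c280065405, nat_lit 0x5c800e4c00725003938005cc05, nat_lit 0x178003a78005e403, nat_lit 0x178003978005e403,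 nat_lit 0x17a003a880062c03, nat_lit 0x17a003a600063403, nat_lit 0x190000be0005fc03, nat_lit 0x192000be00060403, nat_lit 0x182003ab80064403, nat_lit 0x182003ae80060c03, nat_lit 0x186003b180061c03, nat_lit 0x19a000c700064403, nat_lit 0x19c000c700064c03, nat_lit 0x63800eac0075d003ab80063c05, nat_lit 0x196003ba80065c03, nat_lit 0x19a003bd80066c03, nat_lit 0xada005110023e8011e80091400498002530012d808, nat_lit 0x660002700150000a8600780002d48016ac07, nat_lit 0x782002cc0001b403, nat_lit 0x6f200366001a5000cc80060c0005000182807, nat_lit 0x70b0036e801acc00d04000e80034000194807, nat_lit 0x770003b9001d6400e7a00712000a7001c4007, nat_lit 0x77e003bb801db400eaa00738000b4001cd807, nat_lit 0x8c003c100021403, nat_lit 0x8a003c200023403, nat_lit 0xa2003c70002ac03, nat_lit 0xaa003c80002a403, nat_lit 0x39800190007920006080037405, nat_lit 0xc6003ca00032403, nat_lit 0x65800342801e5803, nat_lit 0xfa003cb00041c03, nat_lit 0x478001f800796000848004bc05, nat_lit 0x7980033e80038c00cb0000ed00087801b3807,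 nat_lit 0x108003cd00041403, nat_lit 0x12a003ce00047403, nat_lit 0x740000a70004b000f38006a50007d001a1007, nat_lit 0x79e00373001b0403, nat_lit 0x128003d10004c403, nat_lit 0x1c0400db6007a20036e001c2805, nat_lit 0x5600027c007a4000a580059c05, nat_lit 0x148003d400054403, nat_lit 0x1cf800e30007aa00384801cc405, nat_lit 0x17c003d70005d403, nat_lit 0x188003da00063c03, nat_lit 0x19e002e400020403, nat_lit 0x19e002e380067c03, nat_lit 0x678000fc005c30003f80067c05, nat_lit 0x1a0003de80068403, nat_lit 0x1a0003dd80068403, nat_lit 0x68000f7200609003dc00068405, nat_lit 0x6800033c00603000cf80068405, nat_lit 0x1a2003dd80068c03, nat_lit 0x1a4003dc80181c03, nat_lit 0x1a4000cf00181403, nat_lit 0x1a4003de80069403, nat_lit 0x1a4003dd80069403, nat_lit 0x73002f8001698000ea0009300318001f2007, nat_lit 0x1a6003e180069c03, nat_lit 0x1a6000d000068c03, nat_lit 0x1a6003e280069c03, nat_lit 0x1a6003e080069c03, nat_lit 0x1a8003e18006a403, nat_lit 0x1a8000d000069403, nat_lit 0x1a8003e28006a403, nat_lit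 0x1aa000d1001ee403, nat_lit 0x1aa003e38006ac03, nat_lit 0x6a800fa8007d3003ea8006ac05, nat_lit 0x8200040801f8003, nat_lit 0x1ac000d5801f9803, nat_lit 0x1ac000d100067803, nat_lit 0x6b000fa8007d7003ea8006b405, nat_lit 0x7e9002e7001fa003, nat_lit 0x6b80035a007ef000d60006bc05, nat_lit 0x6b800344007bd000d18006bc05, nat_lit 0x1b0003e38006c403, nat_lit 0x1b2003e48002cc03, nat_lit 0x1b2003e580029c03, nat_lit 0x1b4003e98006d403, nat_lit 0x1b4003ea8006bc03, nat_lit 0x6d00034c007bf000d38006d405, nat_lit 0x7fa003fe801fc40035c001a2000d2801f3c07, nat_lit 0x1b6003ea8006c403, nat_lit 0x1b6003eb8006dc03, nat_lit 0x1b6003ec8006dc03, nat_lit 0x1b8003ed8006e403, nat_lit 0x1b8003ee8006cc03, nat_lit 0x1b8003ef8006e403, nat_lit 0x1ba000d50006bc03, nat_lit 0x1ba003f28006ec03, nat_lit 0x6e800fcc005cf003f38006ec05, nat_lit 0x6e800fc2005cd003f00006ec05, nat_lit 0x1bc003f28006f403, nat_lit 0x1bc003f300028403, nat_lit 0x1bc003f18006f403, nat_lit 0x1be003f480028403, nat_lit 0x1be003f68006fc03,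 nat_lit 0x1be000d60006c403, nat_lit 0x1be003f78006fc03, nat_lit 0x1c0003f880070403, nat_lit 0x1c0000d70006c403, nat_lit 0x70800360001a2000d28006cc05, nat_lit 0x1c4003fb80034c03, nat_lit 0x71000364007cd000d980071405, nat_lit 0x6600032f00033c001e6006980034b0020a807, nat_lit 0x1c6003fd80071c03, nat_lit 0x1c6003ff80071c03, nat_lit 0x71800ffa007f1003fe00071c05, nat_lit 0x71800368007d7000da80071c05, nat_lit 0x1c8003fd80072403, nat_lit 0x1c8003fe80070403, nat_lit 0x1c8000da0006dc03, nat_lit 0x1cc0040180070c03, nat_lit 0x1cc0040280073403, nat_lit 0x1cc0040380073403, nat_lit 0x7300036c001a6000d48006e405, nat_lit 0x1ce0040480073c03, nat_lit 0x1ce0040580071403, nat_lit 0x1d00040780070403, nat_lit 0x1d00040880074403, nat_lit 0x1d00040980074403, nat_lit 0x1d0000dd0006f403, nat_lit 0x1d20040b80074c03, nat_lit 0x1d20040c80183403, nat_lit 0x1d20040d80074c03, nat_lit 0x74800378007e1003038002cc05, nat_lit 0x1d40040e80183403, nat_lit 0x1d40040f80075403, nat_lit 0x1d40041080070c03,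 nat_lit 0x7500037c007eb0030280029c05, nat_lit 0x1d60041280075c03, nat_lit 0x75800380007f3000e080075c05, nat_lit 0x7600104e007f50041300076405, nat_lit 0x1da0041480071403, nat_lit 0x1dc00415801a6403, nat_lit 0x1dc0041680077403, nat_lit 0x77000388007f90030c8019d005, nat_lit 0x1e00041880078403, nat_lit 0x1e00041a80078403, nat_lit 0x1e0000e300072403, nat_lit 0x1e00041b80078403, nat_lit 0x1e20041c80078c03, nat_lit 0x1e20041d80075c03, nat_lit 0x78800390007ff000e480078c05, nat_lit 0x1e4000e400072c03, nat_lit 0x1e60041f80076c03, nat_lit 0x1e60042280073c03, nat_lit 0x1e8004238007a403, nat_lit 0x7a00039c0080d000e78007a405, nat_lit 0x1ea0042580075c03, nat_lit 0x1ea004268007ac03, nat_lit 0x1ea004278007ac03, nat_lit 0x7a8003a000815000e88007ac05, nat_lit 0x1ec004298007b403, nat_lit 0x1ec0042c80034c03, nat_lit 0x1ee0042d80199403, nat_lit 0x1ee0042e8007bc03, nat_lit 0x1ee0043080186403, nat_lit 0x7b8003a800823000ea8007bc05, nat_lit 0x1f0004328007c403, nat_lit 0x7c0003ac00827000e180076c05,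 nat_lit 0x1f2004318007cc03, nat_lit 0x1f2000eb00076403, nat_lit 0x1f2004328007cc03, nat_lit 0x1f40043480077403, nat_lit 0x1f60043480077c03, nat_lit 0x1f800437801a9803, nat_lit 0x1fa0043580045c03, nat_lit 0x1fc004388007f403, nat_lit 0x1fc004398007f403, nat_lit 0x1fc0043a80078c03, nat_lit 0x7f0003c000833000f08007f405, nat_lit 0x1fe0043d8007c403, nat_lit 0x1fe0043e8007fc03, nat_lit 0x7f8003c40083d000e680079c05, nat_lit 0x2000043c80080403, nat_lit 0x2000043d8007cc03, nat_lit 0x200000f100079403, nat_lit 0x202004418007a403, nat_lit 0x808003cc00841000f380080c05, nat_lit 0x810003cc00843000f380081405, nat_lit 0x2060044380081c03, nat_lit 0x818003d000849000ee8007e405, nat_lit 0x208004448007c403, nat_lit 0x2080044580082403, nat_lit 0x2080044780082403, nat_lit 0x820003d400851000e98007b405, nat_lit 0x20a00449801a6403, nat_lit 0x828003d80085500332801a5405, nat_lit 0x830003d800857000f680083405, nat_lit 0x20e0044a801a5403, nat_lit 0x20e0044d80083c03, nat_lit 0x20e0044c8019d003, nat_lit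 0x838003dc0085f000ed8007d405, nat_lit 0x2100044f8007d403, nat_lit 0x2100044e80084403, nat_lit 0x840003e000863000f880084405, nat_lit 0x2120044f8007dc03, nat_lit 0x2140045280085403, nat_lit 0x85001146008670045100085405, nat_lit 0x216004538007e403, nat_lit 0x21800455801b5003, nat_lit 0x218000fc00077000388001b2000d2001eec07, nat_lit 0x21a000fc0007ec03, nat_lit 0x21c00456801b2c03, nat_lit 0x7b00038f0023d803, nat_lit 0x21e0045780087c03, nat_lit 0x21e0045880087c03, nat_lit 0x21e0045a80087c03, nat_lit 0x878003f800877000fe80087c05, nat_lit 0x2200045d80080c03, nat_lit 0x2200045c80088403, nat_lit 0x2220045d80081403, nat_lit 0x2220045c80088c03, nat_lit 0x2240045e80089403, nat_lit 0x2240045f80085403, nat_lit 0x2260046280089c03, nat_lit 0x2260046180081c03, nat_lit 0x8980040400881000fa80085c05, nat_lit 0x2280010100081403, nat_lit 0x22a0046580086403, nat_lit 0x8a80040c00885001038008ac05, nat_lit 0x22c0046580086c03, nat_lit 0x22e0046680084403, nat_lit 0x22e0046980082c03, nat_lit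 0x22e004688008bc03, nat_lit 0x8b8004100088d001048008bc05, nat_lit 0x2300046980083403, nat_lit 0x2320046b801b3403, nat_lit 0x2320046a801b2403, nat_lit 0x8c80041400891001058008cc05, nat_lit 0x2340010500083403, nat_lit 0x2340046a80045c03, nat_lit 0x2360047080085c03, nat_lit 0x2360046f801a9803, nat_lit 0x8d80041c00897001078008dc05, nat_lit 0x2380046d801b3c03, nat_lit 0x2380046e8008e403, nat_lit 0x2380046f801aac03, nat_lit 0x7ab003740024d803, nat_lit 0x22ac00db0006a7004370021b00114c008e00011c8024f009, nat_lit 0x23a004738008ec03, nat_lit 0x23a0047180085c03, nat_lit 0x23a004728008ec03, nat_lit 0x8f800424001f0000f980085405, nat_lit 0x2400047680090403, nat_lit 0x2400047580090403, nat_lit 0x90000428008a10010a80090405, nat_lit 0x2420047780086403, nat_lit 0x2460010c00086c03, nat_lit 0x2480047a80087403, nat_lit 0x7420047c80254803, nat_lit 0x24a0047d80092c03, nat_lit 0x24a0048080092c03, nat_lit 0x24a0047f80092c03, nat_lit 0x9280043c008b3000ff80088405, nat_lit 0x24c0048180089c03,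 nat_lit 0x93000440008b7001088008ec05, nat_lit 0x24e0011000088c03, nat_lit 0x24e0048280093c03, nat_lit 0x2500048480094403, nat_lit 0x9400120e008c70048300094405, nat_lit 0x94000444001fe0010080089405, nat_lit 0x2520048580094c03, nat_lit 0x254001130008a403, nat_lit 0x2540048980091403, nat_lit 0x254004888008b403, nat_lit 0x9580122a008c70048a00095c05, nat_lit 0x258001150008b403, nat_lit 0x2580048c80096403, nat_lit 0x2580048b80091c03, nat_lit 0x96800458008c90011680096c05, nat_lit 0x25c0049180097403, nat_lit 0x25c0048f8008cc03, nat_lit 0x9700045c008cf0011780097405, nat_lit 0x25e0048e8008f403, nat_lit 0x25e001170008c403, nat_lit 0x25e0048f8008d403, nat_lit 0x25e0049080097c03, nat_lit 0x25e0049080247c011ae00694003370019b407, nat_lit 0x9800124a008d90049200098405, nat_lit 0x26200493801bcc03, nat_lit 0x26200494801bc403, nat_lit 0x1d1800e4000990004c9801bbc0026c006eb0037d8023c009, nat_lit 0x264001190008d403, nat_lit 0x2640049580099403, nat_lit 0x26600497801b2c03, nat_lit 0x9980125a008d90049600099c05,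 nat_lit 0x2680049880090c03, nat_lit 0x26800499801b5003, nat_lit 0x26a0011b0008e403, nat_lit 0x7080049e80268803, nat_lit 0x26c0049d80047c03, nat_lit 0x2700011d0008f403, nat_lit 0x270004a180091403, nat_lit 0x270004a280250c01260009350011b00236c07, nat_lit 0x274004a380090403, nat_lit 0x276004a68009dc03, nat_lit 0x276004a48009dc03, nat_lit 0x276004a58009dc03, nat_lit 0x278004a780091c03, nat_lit 0x27c004a880092403, nat_lit 0x75e004aa8026e003, nat_lit 0x27e004aa001d6803, nat_lit 0x280004ae80093403, nat_lit 0x280004ac800a0403, nat_lit 0x280004ad800a0403, nat_lit 0xa0000494008fd00125800a0405, nat_lit 0x282004ab800a0c03, nat_lit 0x284004b08009bc03, nat_lit 0x2860012600093c03, nat_lit 0x286004b08009c403, nat_lit 0x286004af80095403, nat_lit 0x288004b2800a2403, nat_lit 0x28a004b4800a2c03, nat_lit 0x28a004b3800a2c03, nat_lit 0x28a004b580094c03, nat_lit 0xa30004a40090d001208009dc05, nat_lit 0x28e004b780095c03, nat_lit 0x28e004b980096c03, nat_lit 0xa38004a80090f0012a800a3c05, nat_lit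 0x290004bb80096c03, nat_lit 0x290004bc800a4403, nat_lit 0x292004be800a4c03, nat_lit 0xa48004b40091b001248009fc05, nat_lit 0x294004c1800a5403, nat_lit 0x294004bf800a5403, nat_lit 0xa50004b80091d0011d8009bc05, nat_lit 0x2960012e00097c03, nat_lit 0x296004c080099403, nat_lit 0x298004c28009cc03, nat_lit 0x298004c5800a6403, nat_lit 0xa60004bc009230012f800a6405, nat_lit 0x29a004c7800a6c03, nat_lit 0x29c0013100099403, nat_lit 0x29e004cb80099c03, nat_lit 0x2a0004ce800a8403, nat_lit 0x2a2004d0801bf403, nat_lit 0x2a4004d18009b403, nat_lit 0x2a4004d2001cb003, nat_lit 0xa90004d400931001228009ec05, nat_lit 0xa98004d80093900136800a9c05, nat_lit 0x2a8001370009c403, nat_lit 0x2aa004d48009cc03, nat_lit 0xaa8004e00094100138800aac05, nat_lit 0x2ae004d78009dc03, nat_lit 0x2b0004d8800ac403, nat_lit 0x2b0004d9800ac403, nat_lit 0x2b0004da800ac403, nat_lit 0x2b2004db8009f403, nat_lit 0x2b8004dd001db803, nat_lit 0x2ba004e2800aec03, nat_lit 0x2ba004df800a1403, nat_lit 0x2ba004e0800aec03, nat_lit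 0x2ba004e1800aec03, nat_lit 0xae8005000095700140800aec05, nat_lit 0x2bc00140000a0c03, nat_lit 0x2bc004e2800af403, nat_lit 0x2bc004e0800af403, nat_lit 0x2bc004e1800af403, nat_lit 0x2bc004e18027040137e009610011d00247007, nat_lit 0x2be004e3800afc03, nat_lit 0xaf8005040095d00127800a2405, nat_lit 0x2c000142000a1c03, nat_lit 0x2c0004e4800aa403, nat_lit 0x2c2004e5800a2403, nat_lit 0x2c4004e8800b1403, nat_lit 0xb10005100096300128800a2c05, nat_lit 0x2c8004e9800b2403, nat_lit 0x2c8004ea800b2403, nat_lit 0x2c8004eb800a3403, nat_lit 0x2ca004ec800ac403, nat_lit 0xb28005180096d00146800b2c05, nat_lit 0x2ca0014600094800448008c10043f80072807, nat_lit 0x2cc004ee800a4c03, nat_lit 0x2cc004ef800b3403, nat_lit 0xb30013b600975004ed000b3405, nat_lit 0xb300051c009710013d800ad405, nat_lit 0x2d0004f0800a4c03, nat_lit 0xb40005200097b0013e800ae405, nat_lit 0x2d40014a000a5c03, nat_lit 0x2d4004f6800aa403, nat_lit 0x2d4004f4800b5403, nat_lit 0x2d6004f7800a6403, nat_lit 0xb580052c0097f0014b800b5c05,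 nat_lit 0x2d8004f9800ab403, nat_lit 0x2d8004fa800b6403, nat_lit 0x2d8004fb800b6403, nat_lit 0xb60005300098700130800a6c05, nat_lit 0xb68005300098900133800a8405, nat_lit 0x2dc004fd800a7c03, nat_lit 0xb70005380099100390801d1005, nat_lit 0x25f004c5002624004ce0099c004fe0029a807, nat_lit 0x70a003d6001ca0002b60071c000b88029b007, nat_lit 0xb78013fa0099d004fe000b7c05, nat_lit 0xb780053c009990014f800b7c05, nat_lit 0x2e0004fe800a8403, nat_lit 0xb88005400099b0038f801cd005, nat_lit 0x162000b28029e003, nat_lit 0x2e40050080056403, nat_lit 0xb90005440099f0013c800acc05, nat_lit 0x2e600503800ad403, nat_lit 0x2e600502801d3003, nat_lit 0x2e800501800a9c03, nat_lit 0x2ec00507800bb403, nat_lit 0xbb800554009ab0013d800adc05, nat_lit 0x2f400508800ac403, nat_lit 0x2f4001570009d00047c008e90045480077807, nat_lit 0x2cb005230029140142400a140050b002a2807, nat_lit 0x2f60050c800ae403, nat_lit 0x2f80015a000adc03, nat_lit 0x2fa0050d801de003, nat_lit 0x2fc0015d000af403, nat_lit 0x2fc00512800bf403, nat_lit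 0x2fc0050e800bf403, nat_lit 0x2fc00510800bf403, nat_lit 0x2fc00511800bf403, nat_lit 0x2fe00513800afc03, nat_lit 0x2fe00516800bfc03, nat_lit 0xbf800578009bf00143800b0c05, nat_lit 0x30000518800c0403, nat_lit 0x30000519800b1403, nat_lit 0x3020051a800b0c03, nat_lit 0xc1000584009cd00155800bb405, nat_lit 0x3060051c800b1c03, nat_lit 0xc1800584009cf00147800b3c05, nat_lit 0x3080051e800b2403, nat_lit 0x30a00162000b1c03, nat_lit 0xc280147a009d30051e000c2c05, nat_lit 0x30e0051f800c3c03, nat_lit 0x30e00520800c3c03, nat_lit 0x30e00521800b2c03, nat_lit 0x31000527800c4403, nat_lit 0x31000166000b3c03, nat_lit 0x31000526800c4403, nat_lit 0x3120052a800bec03, nat_lit 0xc48005a0009e300168800c4c05, nat_lit 0xc50005a4009e7004de80065405, nat_lit 0x196003b0802b2003, nat_lit 0x3180052b800b5c03, nat_lit 0x3180052c800bac03, nat_lit 0xc60005a8009eb0016a800c6405, nat_lit 0x31a0052f800c6c03, nat_lit 0x31c0052e800b6c03, nat_lit 0xc70005ac009f10014f800b8405, nat_lit 0x31e00530800bcc03, nat_lit 0x31e0016c000b6c03,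 nat_lit 0x31e00532800c7c03, nat_lit 0xc78014ce009f900533000c7c05, nat_lit 0x32200535800b8403, nat_lit 0x9f6004fa000b6c014d2009fe0053b002b8007, nat_lit 0x32400539800c9403, nat_lit 0x3240016f000b8403, nat_lit 0x3260053b800b8c03, nat_lit 0x7520053d802ba003, nat_lit 0x3280053e8005d403, nat_lit 0x3280053f800bdc03, nat_lit 0x32a00173000ba403, nat_lit 0x32a00540800be403, nat_lit 0x32a0054180063403, nat_lit 0x32e00543800cbc03, nat_lit 0xcb8005d800a0d00156800bc405, nat_lit 0x33000176000bbc03, nat_lit 0x33200178000bcc03, nat_lit 0x33400548800bec03, nat_lit 0x33c0054b800bfc03, nat_lit 0x33c0054c800cf403, nat_lit 0x33c0054f800cf403, nat_lit 0xcf0005f800a1f00160800c0c05, nat_lit 0x33e00551800cfc03, nat_lit 0x33e00552800c1403, nat_lit 0xcf8005fc00a290017f800cfc05, nat_lit 0x34000552800c1c03, nat_lit 0xd00005fc00a2b0017f800d0405, nat_lit 0x34400553800d1403, nat_lit 0x34400554800c2c03, nat_lit 0x34600555800c1403, nat_lit 0xd180060400a3700175800cb405, nat_lit 0x34800555800c1c03,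 nat_lit 0x34a00556800cbc03, nat_lit 0xd280060800a3900162800c2405, nat_lit 0xa42005200028f80156400b1e001a5002c5807, nat_lit 0x34c00182000c1c03, nat_lit 0x34e00557800c3403, nat_lit 0x35000559800c3c03, nat_lit 0x3520055a800c3403, nat_lit 0x3520055b800d4c03, nat_lit 0xd480061400a3b00185800d4c05, nat_lit 0x3540055f800d5403, nat_lit 0xd500062000a510017c800ce405, nat_lit 0xd580062000a4b00169800c5c05, nat_lit 0x3580018a000c5c03, nat_lit 0x35a00566800c6c03, nat_lit 0x35c00566800c7403, nat_lit 0x35c00568800d7403, nat_lit 0x35e0018d000c7403, nat_lit 0x35e00569800d7c03, nat_lit 0x3600056a800c8403, nat_lit 0x3620056d800c8403, nat_lit 0x3620056f800d8c03, nat_lit 0xd880063c00a630018f800d8c05, nat_lit 0x36400570800c9c03, nat_lit 0x76800575802d2003, nat_lit 0x366001b2802d2803, nat_lit 0x73f003d9801d2800e900018b005a6000d9807, nat_lit 0x36800572800da403, nat_lit 0xda00064800a7500192800da405, nat_lit 0x36a00573800c9c03, nat_lit 0x76a00575802d5003, nat_lit 0x36c001b5802d5803, nat_lit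 0x36e0057680062403, nat_lit 0x36e00577800cd403, nat_lit 0x37000577800cdc03, nat_lit 0x3720057a80066403, nat_lit 0xdc8015e200a8500504800a980134e0011e00355001ab409, nat_lit 0x37400579800cec03, nat_lit 0x37800197000cc403, nat_lit 0x3780057c800ccc03, nat_lit 0x3780057b800de403, nat_lit 0xde8015f600a8900549000ce405, nat_lit 0x3800019c000cec03, nat_lit 0x38400580800cfc03, nat_lit 0x38400582800e1403, nat_lit 0x38400583800d1c03, nat_lit 0xe100067800a9b0019e800e1405, nat_lit 0x38600580800d0403, nat_lit 0x38600581800e1c03, nat_lit 0x38600583800d2403, nat_lit 0xe180067800a9d0019e800e1c05, nat_lit 0x38800586800e2403, nat_lit 0x38800584800e2403, nat_lit 0x38800585800d2c03, nat_lit 0xe200067c00aa100180800d0c05, nat_lit 0x38a0019f000d0403, nat_lit 0x38a00585800d3403, nat_lit 0x38c00587800d3c03, nat_lit 0x985004d40027300058600307001a7802e3007, nat_lit 0x38e001a1000d1403, nat_lit 0x3900058c800ddc03, nat_lit 0x3940058d800d3c03, nat_lit 0xb15001a9802cb00165400b2900592002e5007, nat_lit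 0x3960058f800d4403, nat_lit 0x398001a5000d3403, nat_lit 0xe680164600ab100560000d5405, nat_lit 0x39e001aa000d5c03, nat_lit 0x3a000597800e8403, nat_lit 0x3a000598800e0c03, nat_lit 0xe80006a800ac3001aa800e8405, nat_lit 0x3a4001ac002b2803, nat_lit 0xba7003be002e9803, nat_lit 0xe98006b400acf00196800ddc05, nat_lit 0x3a80059b800d7c03, nat_lit 0x3aa0059c800d8403, nat_lit 0x3aa0059d800eac03, nat_lit 0xbb0001d5000d700063000a5b0052c80282c07, nat_lit 0xadc001b1802d180168800b43005a0002eb807, nat_lit 0xeb00167a00ad700573000da405, nat_lit 0x3ae001b4000dac03, nat_lit 0x3b0005a8800ec403, nat_lit 0x3b0005a9800ec403, nat_lit 0x3b2005ac80066403, nat_lit 0x3b4005ae800df403, nat_lit 0x3b6005af800dfc03, nat_lit 0xed8006e000aed003da00064405, nat_lit 0x3b8001b9000dd403, nat_lit 0x3b8005b0802ef803, nat_lit 0xee8006e400af30019c800e0c05, nat_lit 0x3be005b3800dec03, nat_lit 0x3c0005b6800e0c03, nat_lit 0x3c4005e1002f1403, nat_lit 0xf10006fc003360054880286c05, nat_lit 0xbd0005e9802868014a8002d0004f180278407,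 nat_lit 0x3c6001c0000e0c03, nat_lit 0x3ca005b9800f2c03, nat_lit 0x3ca005ba800e4403, nat_lit 0xf280070800b03001c2800f2c05, nat_lit 0x3cc005b8800e2c03, nat_lit 0x3cc001c2000e1c03, nat_lit 0x3cc005ba800e4c03, nat_lit 0x3ce005bc800e3403, nat_lit 0x3ce005bd800f3c03, nat_lit 0x3ce005be800e5403, nat_lit 0xbe8001e7000e180067800a9b0054c802a5c07, nat_lit 0x3d0005c2800e5c03, nat_lit 0x3d2001c4000e2c03, nat_lit 0x3d2005c3800e3c03, nat_lit 0xf500171200b11005c4000f5405, nat_lit 0x3d6005c5800e7403, nat_lit 0x9f300506000bb4015580034d001ce802fd007, nat_lit 0x17ec00ae3005a7001e9c0105e00a8c00547002c8408, nat_lit 0x3d8005c9800ef403, nat_lit 0xf600072000b17001a5800e5c05, nat_lit 0xabc0055d002ae00164c00b98005fe000f6007, nat_lit 0x17fc00a4900400801f4000c880069e004c6002e3c08, nat_lit 0x3da001c8000e4c03, nat_lit 0x3de001cb000e6403, nat_lit 0x97c004ee000b3c0156000b22005cd00301007, nat_lit 0x180c00bd4003c58029c4014dc00a2e005f5002e5808, nat_lit 0x3e0005cd800e6c03, nat_lit 0xf800073000b1d001bc800efc05,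 nat_lit 0x3e2005ce800e7c03, nat_lit 0x3e2001cd000e7403, nat_lit 0x3e4005ce800e8403, nat_lit 0xf980173e00b330059a000e8c05, nat_lit 0x3ea005d0800fac03, nat_lit 0x3ea005d2800fac03, nat_lit 0x3ea005d1800f2403, nat_lit 0x3ec001d1000e9403, nat_lit 0xc1d005d400307003, nat_lit 0x3ee005d5800ef403, nat_lit 0x3f0001d3000ea403, nat_lit 0x3f2005d6800eb403, nat_lit 0x3f4005db800ec403, nat_lit 0xfd00075800b3f001d6800fd405, nat_lit 0x3f6001d7000ec403, nat_lit 0x3f8005dd800fe403, nat_lit 0xfe00184c00c2900613800fe405, nat_lit 0xfe00076000368001b6800ecc05, nat_lit 0x3fa005de800fec03, nat_lit 0x3fc005e0800f0c03, nat_lit 0xff00076800b5b003db80066c05, nat_lit 0x3fe001dc000eec03, nat_lit 0xff80178e00b65005b7000f1c05, nat_lit 0x404005e6800f0403, nat_lit 0x10100077c00b6b001df80101405, nat_lit 0x4060061a0030dc03, nat_lit 0x1018007840037c0057f802a5405, nat_lit 0xc4000621802a500158800ac70018900294c07, nat_lit 0x408005eb800f2403, nat_lit 0x40a005ed800f6403, nat_lit 0x40c001e5000f3403, nat_lit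 0x40c005ee80103403, nat_lit 0x40e005ef800f5403, nat_lit 0x1038017c200b7f005f000103c05, nat_lit 0x10380079800b77001e680103c05, nat_lit 0x410005ef800f5c03, nat_lit 0x410005f0800f3c03, nat_lit 0x410005f1800f7403, nat_lit 0xc5000207000f30016e400b75005fc00315007, nat_lit 0x40c005ec002f6c0180200be4005f300315807, nat_lit 0xc4b0020880316803, nat_lit 0x412001e8000f4c03, nat_lit 0x412005f6800f7c03, nat_lit 0x414005f7800f5403, nat_lit 0x1050007a400b81001e980105405, nat_lit 0xc660020a002fc40172200b130060400318807, nat_lit 0x416005f7800f5c03, nat_lit 0x4160020a8031a403, nat_lit 0x1058007a400b83001e980105c05, nat_lit 0x41a0062700317803, nat_lit 0x41a006320031a403, nat_lit 0x41a005f980106c03, nat_lit 0x41a001ea000f5c03, nat_lit 0x40a002068031c003, nat_lit 0x1070007a800b8b001cd800f9405, nat_lit 0x420001ec000f6c03, nat_lit 0x420005fe800f7c03, nat_lit 0x420006240031e403, nat_lit 0x41c0020d80320003, nat_lit 0x4220063e00320803, nat_lit 0x42200601800f7403, nat_lit 0x1090018b000c5c0062f80314c0081c00c4a0062680317409,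 nat_lit 0x42600602800f8403, nat_lit 0x9e400525000c44006aa00b9c0060500322807, nat_lit 0x191800c44003c6801e2400f42009ac005d9002ed008, nat_lit 0x4280063f00320803, nat_lit 0x428006310031a003, nat_lit 0x42a00606800ef8016d200afd0056c00323807, nat_lit 0x42c0060680101403, nat_lit 0x42c0021580325403, nat_lit 0x42e00607800fa403, nat_lit 0x10b80182200bf40063b00320005, nat_lit 0x43000609800fac03, nat_lit 0x432001f3000fa403, nat_lit 0x4340060f8010d403, nat_lit 0x436001f7000fc403, nat_lit 0x4360061080100c03, nat_lit 0x43800611800fcc03, nat_lit 0x43a00612800fd403, nat_lit 0x43c00613800fec03, nat_lit 0x10f8007ec00bb9005ab00066405, nat_lit 0x2d840195c0043e00615802ef4007f200c2d00617800fe009, nat_lit 0x44000615800fec03, nat_lit 0x4420061680110c03, nat_lit 0x4420061780110c03, nat_lit 0x442001fc000fec03, nat_lit 0x110801862003b2005ac80063000ece00765003a6801cb409, nat_lit 0x4440061d80102403, nat_lit 0x4440061c80100403, nat_lit 0x1110007fc00bc90061800110c05, nat_lit 0x4460065f00330403,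 nat_lit 0xcb30065c00330803, nat_lit 0x10040088e00cc4006598030cc0197000cb50065b8032e409, nat_lit 0x11200080400bfa0021080327005, nat_lit 0xca10064d00332003, nat_lit 0x44a0063080106403, nat_lit 0x1128018c6004270064c00325c0187e00c3d005e7802f2809, nat_lit 0x44c0063580107c03, nat_lit 0x44c0063680112c03, nat_lit 0x44c0020b00106403, nat_lit 0x44e0063980112c03, nat_lit 0x44e0063b80107c03, nat_lit 0x4500063d8010c403, nat_lit 0x110c0198000cbd006238030680183000c160064f00336809, nat_lit 0x4520064280114403, nat_lit 0x4520064380109403, nat_lit 0x4540064880114403, nat_lit 0x115001926004140020b8031bc018da00c720063a8031dc09, nat_lit 0x11580086400c15001f68010d405, nat_lit 0x4580065180116403, nat_lit 0x45a006528010e403, nat_lit 0x11680194e004490066500115c05, nat_lit 0x458006730033b003, nat_lit 0x45c006750033b803, nat_lit 0x45c006548010ec03, nat_lit 0xcf1006740033c003, nat_lit 0xcf20067a8033cc03, nat_lit 0x87800caa0067b0032ac04, nat_lit 0xcac0067c80309c03, nat_lit 0xcb90067d800fe403,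 nat_lit 0xcc70067d8032c003, nat_lit 0xcdc0067e0032ec03, nat_lit 0xccf0067f802d8c03, nat_lit 0xcdf00680801cc403, nat_lit 0xce300680801c2003, nat_lit 0xccc00681801a4003, nat_lit 0xcd700681801a9803, nat_lit 0xcd3006818021b803, nat_lit 0xce000682801ec803, nat_lit 0xce4006838024f803, nat_lit 0x1a1800cd5006848003d404, nat_lit 0xcd8006858022a803, nat_lit 0x3450019a000d0d00689801b3405, nat_lit 0xc880068780265403, nat_lit 0x3460018aa00d110068b801bcc05, nat_lit 0x8f20068d801e1c03, nat_lit 0xcf80347402]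
theorem st0 : band (steps F IV RT base st0_l 559) (Nat.beq (Nat.add 559 (llen st0_l)) 1680) = true := by decide +kernel

theorem rot1_1 : T.rot 1 [1] (sel (ones 14080) ip1 1) = true := by decide +kernel

theorem rot1_1r : band (Rule.ok (2 * 9) EX RL ⟨1 :: [1], [], 38, false⟩) (lall (memL L) [1]) = true := by decide +kernel

theorem rot1_2 : T.rot 1 [3, 1, 3] (sel (ones 14080) ip1 2) = true := by decide +kernel

theorem rot1_2r : band (Rule.ok (2 * 9) EX RL ⟨1 :: [3, 1, 3], [], 1, false⟩) (lall (memL L) [3, 1, 3]) = true := by decide +kernel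

theorem rot1_3 : T.rot 1 [4, 1, 4] (sel (ones 14080) ip1 3) = true := by decide +kernel

theorem rot1_3r : band (Rule.ok (2 * 9) EX RL ⟨1 :: [4, 1, 4], [], 2, false⟩) (lall (memL L) [4, 1, 4]) = true := by decide +kernel

theorem rot1_4 : T.rot 1 [5, 1, 5] (sel (ones 14080) ip1 4) = true := by decide +kernel

theorem rot1_4r : band (Rule.ok (2 * 9) EX RL ⟨1 :: [5, 1, 5], [], 3, false⟩) (lall (memL L) [5, 1, 5]) = true := by decide +kernel

theorem rot1_5 : T.rot 1 [6, 1, 6] (sel (ones 14080) ip1 5) = true := by decide +kernel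

theorem rot1_5r : band (Rule.ok (2 * 9) EX RL ⟨1 :: [6, 1, 6], [], 4, false⟩) (lall (memL L) [6, 1, 6]) = true := by decide +kernel

theorem rot1_6 : T.rot 1 [7, 1, 7] (sel (ones 14080) ip1 6) = true := by decide +kernel

theorem rot1_6r : band (Rule.ok (2 * 9) EX RL ⟨1 :: [7, 1, 7], [], 5, false⟩) (lall (memL L) [7, 1, 7]) = true := by decide +kernel

theorem rot1_7 : T.rot 1 [8, 1, 8] (sel (ones 14080) ip1 7) = true := by decide +kernel

theorem rot1_7r : band (Rule.ok (2 * 9) EX RL ⟨1 :: [8, 1, 8], [], 6, false⟩) (lall (memL L) [8, 1, 8]) = true := by decide +kernel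

theorem rot1_8 : T.rot 1 [9, 1, 9] (sel (ones 14080) ip1 8) = true := by decide +kernel

theorem rot1_8r : band (Rule.ok (2 * 9) EX RL ⟨1 :: [9, 1, 9], [], 7, false⟩) (lall (memL L) [9, 1, 9]) = true := by decide +kernel

theorem rot1_9 : T.rot 1 [2, 1, 2, 1, 2] (sel (ones 14080) ip1 9) = true := by decide +kernel

theorem rot1_9r : band (Rule.ok (2 * 9) EX RL ⟨1 :: [2, 1, 2, 1, 2], [], 0, false⟩) (lall (memL L) [2, 1, 2, 1, 2]) = true := by decide +kernel

theorem rot1_10 : T.rot 1 [13, 8, 6, 5, 4, 3, 2] (sel (ones 14080) ip1 10) = true := by decide +kernel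

theorem rot1_10r : band (Rule.ok (2 * 9) EX RL ⟨1 :: [13, 8, 6, 5, 4, 3, 2], [], 38, false⟩) (lall (memL L) [13, 8, 6, 5, 4, 3, 2]) = true := by decide +kernel

theorem rot1_11 : T.rot 1 [2, 3, 4, 5, 6, 8, 12] (sel (ones 14080) ip1 11) = true := by decide +kernel

theorem rot1_11r : band (Rule.ok (2 * 9) EX RL ⟨1 :: [2, 3, 4, 5, 6, 8, 12], [], 38, false⟩) (lall (memL L) [2, 3, 4, 5, 6, 8, 12]) = true := by decide +kernel

theorem cov1 : T.cover 1 [(sel (ones 14080) ip1 1), (sel (ones 14080) ip1 2), (sel (ones 14080) ip1 3), (sel (ones 14080) ip1 4), (sel (ones 14080) ip1 5), (sel (ones 14080) ip1 6), (sel (ones 14080) ip1 7), (sel (ones 14080) ip1 8), (sel (ones 14080) ip1 9), (sel (ones 14080) ip1 10), (sel (ones 14080) ip1 11)] = true := by decide +kernel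

theorem tl1 : T.treeLt 14 1 = true := by decide +kernel

theorem rot2_1 : T.rot 2 [2] (sel (ones 14080) ip2 1) = true := by decide +kernel

theorem rot2_1r : band (Rule.ok (2 * 9) EX RL ⟨2 :: [2], [], 38, false⟩) (lall (memL L) [2]) = true := by decide +kernel

theorem rot2_2 : T.rot 2 [4, 2, 4] (sel (ones 14080) ip2 2) = true := by decide +kernel

theorem rot2_2r : band (Rule.ok (2 * 9) EX RL ⟨2 :: [4, 2, 4], [], 9, false⟩) (lall (memL L) [4, 2, 4]) = true := by decide +kernel

theorem rot2_3 : T.rot 2 [5, 2, 5] (sel (ones 14080) ip2 3) = true := by decide +kernel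

theorem rot2_3r : band (Rule.ok (2 * 9) EX RL ⟨2 :: [5, 2, 5], [], 10, false⟩) (lall (memL L) [5, 2, 5]) = true := by decide +kernel

theorem rot2_4 : T.rot 2 [6, 2, 6] (sel (ones 14080) ip2 4) = true := by decide +kernel

theorem rot2_4r : band (Rule.ok (2 * 9) EX RL ⟨2 :: [6, 2, 6], [], 11, false⟩) (lall (memL L) [6, 2, 6]) = true := by decide +kernel

theorem rot2_5 : T.rot 2 [7, 2, 7] (sel (ones 14080) ip2 5) = true := by decide +kernel

theorem rot2_5r : band (Rule.ok (2 * 9) EX RL ⟨2 :: [7, 2, 7], [], 12, false⟩) (lall (memL L) [7, 2, 7]) = true := by decide +kernel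

theorem rot2_6 : T.rot 2 [8, 2, 8] (sel (ones 14080) ip2 6) = true := by decide +kernel

theorem rot2_6r : band (Rule.ok (2 * 9) EX RL ⟨2 :: [8, 2, 8], [], 13, false⟩) (lall (memL L) [8, 2, 8]) = true := by decide +kernel

theorem rot2_7 : T.rot 2 [9, 2, 9] (sel (ones 14080) ip2 7) = true := by decide +kernel

theorem rot2_7r : band (Rule.ok (2 * 9) EX RL ⟨2 :: [9, 2, 9], [], 14, false⟩) (lall (memL L) [9, 2, 9]) = true := by decide +kernel

theorem rot2_8 : T.rot 2 [1, 2, 1, 2, 1] (sel (ones 14080) ip2 8) = true := by decide +kernel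

theorem rot2_8r : band (Rule.ok (2 * 9) EX RL ⟨2 :: [1, 2, 1, 2, 1], [], 0, true⟩) (lall (memL L) [1, 2, 1, 2, 1]) = true := by decide +kernel

theorem rot2_9 : T.rot 2 [3, 2, 3, 2, 3] (sel (ones 14080) ip2 9) = true := by decide +kernel

theorem rot2_9r : band (Rule.ok (2 * 9) EX RL ⟨2 :: [3, 2, 3, 2, 3], [], 8, false⟩) (lall (memL L) [3, 2, 3, 2, 3]) = true := by decide +kernel

theorem rot2_10 : T.rot 2 [1, 13, 8, 6, 5, 4, 3] (sel (ones 14080) ip2 10) = true := by decide +kernel

theorem rot2_10r : band (Rule.ok (2 * 9) EX RL ⟨2 :: [1, 13, 8, 6, 5, 4, 3], [], 38, false⟩) (lall (memL L) [1, 13, 8, 6, 5, 4, 3]) = true := by decide +kernel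

theorem rot2_11 : T.rot 2 [3, 4, 5, 6, 8, 12, 1] (sel (ones 14080) ip2 11) = true := by decide +kernel

theorem rot2_11r : band (Rule.ok (2 * 9) EX RL ⟨2 :: [3, 4, 5, 6, 8, 12, 1], [], 38, false⟩) (lall (memL L) [3, 4, 5, 6, 8, 12, 1]) = true := by decide +kernel

theorem rot2_12 : T.rot 2 [3, 4, 11, 9, 8, 4, 6, 5, 4] (sel (ones 14080) ip2 12) = true := by decide +kernel

theorem rot2_12r : band (Rule.ok (2 * 9) EX RL ⟨2 :: [3, 4, 11, 9, 8, 4, 6, 5, 4], [], 38, false⟩) (lall (memL L) [3, 4, 11, 9, 8, 4, 6, 5, 4]) = true := by decide +kernel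

theorem rot2_13 : T.rot 2 [4, 5, 6, 4, 8, 9, 10, 4, 3] (sel (ones 14080) ip2 13) = true := by decide +kernel

theorem rot2_13r : band (Rule.ok (2 * 9) EX RL ⟨2 :: [4, 5, 6, 4, 8, 9, 10, 4, 3], [], 38, false⟩) (lall (memL L) [4, 5, 6, 4, 8, 9, 10, 4, 3]) = true := by decide +kernel

theorem cov2 : T.cover 2 [(sel (ones 14080) ip2 1), (sel (ones 14080) ip2 2), (sel (ones 14080) ip2 3), (sel (ones 14080) ip2 4), (sel (ones 14080) ip2 5), (sel (ones 14080) ip2 6), (sel (ones 14080) ip2 7), (sel (ones 14080) ip2 8), (sel (ones 14080) ip2 9), (sel (ones 14080) ip2 10), (sel (ones 14080) ip2 11), (sel (ones 14080) ip2 12), (sel (ones 14080) ip2 13), 1] = true := by decide +kernel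

theorem tl2 : T.treeLt 14 2 = true := by decide +kernel

theorem rot3_1 : T.rot 3 [3] (sel (ones 14080) ip3 1) = true := by decide +kernel

theorem rot3_1r : band (Rule.ok (2 * 9) EX RL ⟨3 :: [3], [], 38, false⟩) (lall (memL L) [3]) = true := by decide +kernel

theorem rot3_2 : T.rot 3 [1, 3, 1] (sel (ones 14080) ip3 2) = true := by decide +kernel

theorem rot3_2r : band (Rule.ok (2 * 9) EX RL ⟨3 :: [1, 3, 1], [], 1, true⟩) (lall (memL L) [1, 3, 1]) = true := by decide +kernel

theorem rot3_3 : T.rot 3 [5, 3, 5] (sel (ones 14080) ip3 3) = true := by decide +kernel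

theorem rot3_3r : band (Rule.ok (2 * 9) EX RL ⟨3 :: [5, 3, 5], [], 16, false⟩) (lall (memL L) [5, 3, 5]) = true := by decide +kernel

theorem rot3_4 : T.rot 3 [6, 3, 6] (sel (ones 14080) ip3 4) = true := by decide +kernel

theorem rot3_4r : band (Rule.ok (2 * 9) EX RL ⟨3 :: [6, 3, 6], [], 17, false⟩) (lall (memL L) [6, 3, 6]) = true := by decide +kernel

theorem rot3_5 : T.rot 3 [7, 3, 7] (sel (ones 14080) ip3 5) = true := by decide +kernel

theorem rot3_5r : band (Rule.ok (2 * 9) EX RL ⟨3 :: [7, 3, 7], [], 18, false⟩) (lall (memL L) [7, 3, 7]) = true := by decide +kernel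

theorem rot3_6 : T.rot 3 [8, 3, 8] (sel (ones 14080) ip3 6) = true := by decide +kernel

theorem rot3_6r : band (Rule.ok (2 * 9) EX RL ⟨3 :: [8, 3, 8], [], 19, false⟩) (lall (memL L) [8, 3, 8]) = true := by decide +kernel

theorem rot3_7 : T.rot 3 [9, 3, 9] (sel (ones 14080) ip3 7) = true := by decide +kernel

theorem rot3_7r : band (Rule.ok (2 * 9) EX RL ⟨3 :: [9, 3, 9], [], 20, false⟩) (lall (memL L) [9, 3, 9]) = true := by decide +kernel

theorem rot3_8 : T.rot 3 [2, 3, 2, 3, 2] (sel (ones 14080) ip3 8) = true := by decide +kernel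

theorem rot3_8r : band (Rule.ok (2 * 9) EX RL ⟨3 :: [2, 3, 2, 3, 2], [], 8, true⟩) (lall (memL L) [2, 3, 2, 3, 2]) = true := by decide +kernel

theorem rot3_9 : T.rot 3 [4, 3, 4, 3, 4] (sel (ones 14080) ip3 9) = true := by decide +kernel

theorem rot3_9r : band (Rule.ok (2 * 9) EX RL ⟨3 :: [4, 3, 4, 3, 4], [], 15, false⟩) (lall (memL L) [4, 3, 4, 3, 4]) = true := by decide +kernel

theorem rot3_10 : T.rot 3 [2, 1, 13, 8, 6, 5, 4] (sel (ones 14080) ip3 10) = true := by decide +kernel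

theorem rot3_10r : band (Rule.ok (2 * 9) EX RL ⟨3 :: [2, 1, 13, 8, 6, 5, 4], [], 38, false⟩) (lall (memL L) [2, 1, 13, 8, 6, 5, 4]) = true := by decide +kernel

theorem rot3_11 : T.rot 3 [4, 5, 6, 8, 12, 1, 2] (sel (ones 14080) ip3 11) = true := by decide +kernel

theorem rot3_11r : band (Rule.ok (2 * 9) EX RL ⟨3 :: [4, 5, 6, 8, 12, 1, 2], [], 38, false⟩) (lall (memL L) [4, 5, 6, 8, 12, 1, 2]) = true := by decide +kernel

theorem rot3_12 : T.rot 3 [4, 11, 9, 8, 4, 6, 5, 4, 2] (sel (ones 14080) ip3 12) = true := by decide +kernel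

theorem rot3_12r : band (Rule.ok (2 * 9) EX RL ⟨3 :: [4, 11, 9, 8, 4, 6, 5, 4, 2], [], 38, false⟩) (lall (memL L) [4, 11, 9, 8, 4, 6, 5, 4, 2]) = true := by decide +kernel

theorem rot3_13 : T.rot 3 [2, 4, 5, 6, 4, 8, 9, 10, 4] (sel (ones 14080) ip3 13) = true := by decide +kernel

theorem rot3_13r : band (Rule.ok (2 * 9) EX RL ⟨3 :: [2, 4, 5, 6, 4, 8, 9, 10, 4], [], 38, false⟩) (lall (memL L) [2, 4, 5, 6, 4, 8, 9, 10, 4]) = true := by decide +kernel

theorem ep0a : T.treePath [1, 2, 3, 4, 5, 8, 4, 3, 2, 1, 9, 8, 4] (Nat.shiftLeft 1 103) 1 = true := by decide +kernel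

theorem ep0b : T.treePath [1, 2, 3, 4, 5, 8, 4, 3, 2, 9, 8, 4, 5] (Nat.shiftLeft 1 105) 1 = true := by decide +kernel

theorem ep0c : band (lall (fun z => Nat.ble z 255) ([1, 2, 3, 4, 5, 8, 4, 3, 2, 1, 9, 8, 4] ++ 3 :: [5, 4, 8, 9, 2, 3, 4, 8, 5, 4, 3, 2, 1])) (concl F IV 1680 0x1000018000140000e000090000780004c00036000250001b80012c000ca000830068f0001f8000c4000480001a0000900003400012000070000200000c00004000010000001b (encA ([1, 2, 3, 4, 5, 8, 4, 3, 2, 1, 9, 8, 4] ++ 3 :: [5, 4, 8, 9, 2, 3, 4, 8, 5, 4, 3, 2, 1]) 0)) = true := by decide +kernel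

theorem ep0d : band (Rule.ok (2 * 9) EX [] ⟨lapp [1, 2, 3, 4, 5, 8, 4, 3, 2, 9, 8, 4, 5] [5, 4, 8, 9, 2, 3, 4, 8, 5, 4, 3, 2, 1], [], 0, false⟩) (band (lall (memL L) [1, 2, 3, 4, 5, 8, 4, 3, 2, 1, 9, 8, 4]) (lall (memL L) [1, 2, 3, 4, 5, 8, 4, 3, 2, 9, 8, 4, 5])) = true := by decide +kernel

theorem cov3 : T.cover 3 [(sel (ones 14080) ip3 1), (sel (ones 14080) ip3 2), (sel (ones 14080) ip3 3), (sel (ones 14080) ip3 4), (sel (ones 14080) ip3 5), (sel (ones 14080) ip3 6), (sel (ones 14080) ip3 7), (sel (ones 14080) ip3 8), (sel (ones 14080) ip3 9), (sel (ones 14080) ip3 10), (sel (ones 14080) ip3 11), (sel (ones 14080) ip3 12), (sel (ones 14080) ip3 13), 1, (Nat.shiftLeft 1 103)] = true := by decide +kernel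

theorem tl3 : T.treeLt 14 3 = true := by decide +kernel

theorem rot4_1 : T.rot 4 [4] (sel (ones 14080) ip4 1) = true := by decide +kernel

theorem rot4_1r : band (Rule.ok (2 * 9) EX RL ⟨4 :: [4], [], 38, false⟩) (lall (memL L) [4]) = true := by decide +kernel

theorem rot4_2 : T.rot 4 [1, 4, 1] (sel (ones 14080) ip4 2) = true := by decide +kernel

theorem rot4_2r : band (Rule.ok (2 * 9) EX RL ⟨4 :: [1, 4, 1], [], 2, true⟩) (lall (memL L) [1, 4, 1]) = true := by decide +kernel

theorem rot4_3 : T.rot 4 [2, 4, 2] (sel (ones 14080) ip4 3) = true := by decide +kernel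

theorem rot4_3r : band (Rule.ok (2 * 9) EX RL ⟨4 :: [2, 4, 2], [], 9, true⟩) (lall (memL L) [2, 4, 2]) = true := by decide +kernel

theorem rot4_4 : T.rot 4 [6, 4, 6] (sel (ones 14080) ip4 4) = true := by decide +kernel

theorem rot4_4r : band (Rule.ok (2 * 9) EX RL ⟨4 :: [6, 4, 6], [], 22, false⟩) (lall (memL L) [6, 4, 6]) = true := by decide +kernel

theorem rot4_5 : T.rot 4 [7, 4, 7] (sel (ones 14080) ip4 5) = true := by decide +kernel

theorem rot4_5r : band (Rule.ok (2 * 9) EX RL ⟨4 :: [7, 4, 7], [], 23, false⟩) (lall (memL L) [7, 4, 7]) = true := by decide +kernel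

theorem rot4_6 : T.rot 4 [9, 4, 9] (sel (ones 14080) ip4 6) = true := by decide +kernel

theorem rot4_6r : band (Rule.ok (2 * 9) EX RL ⟨4 :: [9, 4, 9], [], 25, false⟩) (lall (memL L) [9, 4, 9]) = true := by decide +kernel

theorem rot4_7 : T.rot 4 [3, 4, 3, 4, 3] (sel (ones 14080) ip4 7) = true := by decide +kernel

theorem rot4_7r : band (Rule.ok (2 * 9) EX RL ⟨4 :: [3, 4, 3, 4, 3], [], 15, true⟩) (lall (memL L) [3, 4, 3, 4, 3]) = true := by decide +kernel

theorem rot4_8 : T.rot 4 [5, 4, 5, 4, 5] (sel (ones 14080) ip4 8) = true := by decide +kernel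

theorem rot4_8r : band (Rule.ok (2 * 9) EX RL ⟨4 :: [5, 4, 5, 4, 5], [], 21, false⟩) (lall (memL L) [5, 4, 5, 4, 5]) = true := by decide +kernel

theorem rot4_9 : T.rot 4 [8, 4, 8, 4, 8] (sel (ones 14080) ip4 9) = true := by decide +kernel

theorem rot4_9r : band (Rule.ok (2 * 9) EX RL ⟨4 :: [8, 4, 8, 4, 8], [], 24, false⟩) (lall (memL L) [8, 4, 8, 4, 8]) = true := by decide +kernel

theorem rot4_10 : T.rot 4 [3, 2, 1, 13, 8, 6, 5] (sel (ones 14080) ip4 10) = true := by decide +kernel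

theorem rot4_10r : band (Rule.ok (2 * 9) EX RL ⟨4 :: [3, 2, 1, 13, 8, 6, 5], [], 38, false⟩) (lall (memL L) [3, 2, 1, 13, 8, 6, 5]) = true := by decide +kernel

theorem rot4_11 : T.rot 4 [5, 6, 8, 12, 1, 2, 3] (sel (ones 14080) ip4 11) = true := by decide +kernel

theorem rot4_11r : band (Rule.ok (2 * 9) EX RL ⟨4 :: [5, 6, 8, 12, 1, 2, 3], [], 38, false⟩) (lall (memL L) [5, 6, 8, 12, 1, 2, 3]) = true := by decide +kernel

theorem rot4_12 : T.rot 4 [6, 5, 4, 2, 3, 4, 11, 9, 8] (sel (ones 14080) ip4 12) = true := by decide +kernel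

theorem rot4_12r : band (Rule.ok (2 * 9) EX RL ⟨4 :: [6, 5, 4, 2, 3, 4, 11, 9, 8], [], 38, false⟩) (lall (memL L) [6, 5, 4, 2, 3, 4, 11, 9, 8]) = true := by decide +kernel

theorem rot4_13 : T.rot 4 [2, 3, 4, 11, 9, 8, 4, 6, 5] (sel (ones 14080) ip4 13) = true := by decide +kernel

theorem rot4_13r : band (Rule.ok (2 * 9) EX RL ⟨4 :: [2, 3, 4, 11, 9, 8, 4, 6, 5], [], 38, false⟩) (lall (memL L) [2, 3, 4, 11, 9, 8, 4, 6, 5]) = true := by decide +kernel

theorem rot4_14 : T.rot 4 [11, 9, 8, 4, 6, 5, 4, 2, 3] (sel (ones 14080) ip4 14) = true := by decide +kernel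

theorem rot4_14r : band (Rule.ok (2 * 9) EX RL ⟨4 :: [11, 9, 8, 4, 6, 5, 4, 2, 3], [], 38, false⟩) (lall (memL L) [11, 9, 8, 4, 6, 5, 4, 2, 3]) = true := by decide +kernel

theorem rot4_15 : T.rot 4 [3, 2, 4, 5, 6, 4, 8, 9, 10] (sel (ones 14080) ip4 15) = true := by decide +kernel

theorem rot4_15r : band (Rule.ok (2 * 9) EX RL ⟨4 :: [3, 2, 4, 5, 6, 4, 8, 9, 10], [], 38, false⟩) (lall (memL L) [3, 2, 4, 5, 6, 4, 8, 9, 10]) = true := by decide +kernel

theorem rot4_16 : T.rot 4 [5, 6, 4, 8, 9, 10, 4, 3, 2] (sel (ones 14080) ip4 16) = true := by decide +kernel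

theorem rot4_16r : band (Rule.ok (2 * 9) EX RL ⟨4 :: [5, 6, 4, 8, 9, 10, 4, 3, 2], [], 38, false⟩) (lall (memL L) [5, 6, 4, 8, 9, 10, 4, 3, 2]) = true := by decide +kernel

theorem rot4_17 : T.rot 4 [8, 9, 10, 4, 3, 2, 4, 5, 6] (sel (ones 14080) ip4 17) = true := by decide +kernel

theorem rot4_17r : band (Rule.ok (2 * 9) EX RL ⟨4 :: [8, 9, 10, 4, 3, 2, 4, 5, 6], [], 38, false⟩) (lall (memL L) [8, 9, 10, 4, 3, 2, 4, 5, 6]) = true := by decide +kernel

theorem cov4 : T.cover 4 [(sel (ones 14080) ip4 1), (sel (ones 14080) ip4 2), (sel (ones 14080) ip4 3), (sel (ones 14080) ip4 4), (sel (ones 14080) ip4 5), (sel (ones 14080) ip4 6), (sel (ones 14080) ip4 7), (sel (ones 14080) ip4 8), (sel (ones 14080) ip4 9), (sel (ones 14080) ip4 10), (sel (ones 14080) ip4 11), (sel (ones 14080) ip4 12), (sel (ones 14080) ip4 13), (sel (ones 14080) ip4 14), (sel (ones 14080) ip4 15), (sel (ones 14080) ip4 16), (sel (ones 14080) ip4 17), 1] = true := by decide +kernel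

theorem tl4 : T.treeLt 14 4 = true := by decide +kernel

theorem rot5_1 : T.rot 5 [5] (sel (ones 14080) ip5 1) = true := by decide +kernel

theorem rot5_1r : band (Rule.ok (2 * 9) EX RL ⟨5 :: [5], [], 38, false⟩) (lall (memL L) [5]) = true := by decide +kernel

theorem rot5_2 : T.rot 5 [1, 5, 1] (sel (ones 14080) ip5 2) = true := by decide +kernel

theorem rot5_2r : band (Rule.ok (2 * 9) EX RL ⟨5 :: [1, 5, 1], [], 3, true⟩) (lall (memL L) [1, 5, 1]) = true := by decide +kernel

theorem rot5_3 : T.rot 5 [2, 5, 2] (sel (ones 14080) ip5 3) = true := by decide +kernel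

theorem rot5_3r : band (Rule.ok (2 * 9) EX RL ⟨5 :: [2, 5, 2], [], 10, true⟩) (lall (memL L) [2, 5, 2]) = true := by decide +kernel

theorem rot5_4 : T.rot 5 [3, 5, 3] (sel (ones 14080) ip5 4) = true := by decide +kernel

theorem rot5_4r : band (Rule.ok (2 * 9) EX RL ⟨5 :: [3, 5, 3], [], 16, true⟩) (lall (memL L) [3, 5, 3]) = true := by decide +kernel

theorem rot5_5 : T.rot 5 [7, 5, 7] (sel (ones 14080) ip5 5) = true := by decide +kernel

theorem rot5_5r : band (Rule.ok (2 * 9) EX RL ⟨5 :: [7, 5, 7], [], 27, false⟩) (lall (memL L) [7, 5, 7]) = true := by decide +kernel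

theorem rot5_6 : T.rot 5 [8, 5, 8] (sel (ones 14080) ip5 6) = true := by decide +kernel

theorem rot5_6r : band (Rule.ok (2 * 9) EX RL ⟨5 :: [8, 5, 8], [], 28, false⟩) (lall (memL L) [8, 5, 8]) = true := by decide +kernel

theorem rot5_7 : T.rot 5 [9, 5, 9] (sel (ones 14080) ip5 7) = true := by decide +kernel

theorem rot5_7r : band (Rule.ok (2 * 9) EX RL ⟨5 :: [9, 5, 9], [], 29, false⟩) (lall (memL L) [9, 5, 9]) = true := by decide +kernel

theorem rot5_8 : T.rot 5 [4, 5, 4, 5, 4] (sel (ones 14080) ip5 8) = true := by decide +kernel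

theorem rot5_8r : band (Rule.ok (2 * 9) EX RL ⟨5 :: [4, 5, 4, 5, 4], [], 21, true⟩) (lall (memL L) [4, 5, 4, 5, 4]) = true := by decide +kernel

theorem rot5_9 : T.rot 5 [6, 5, 6, 5, 6] (sel (ones 14080) ip5 9) = true := by decide +kernel

theorem rot5_9r : band (Rule.ok (2 * 9) EX RL ⟨5 :: [6, 5, 6, 5, 6], [], 26, false⟩) (lall (memL L) [6, 5, 6, 5, 6]) = true := by decide +kernel

theorem rot5_10 : T.rot 5 [4, 3, 2, 1, 13, 8, 6] (sel (ones 14080) ip5 10) = true := by decide +kernel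

theorem rot5_10r : band (Rule.ok (2 * 9) EX RL ⟨5 :: [4, 3, 2, 1, 13, 8, 6], [], 38, false⟩) (lall (memL L) [4, 3, 2, 1, 13, 8, 6]) = true := by decide +kernel

theorem rot5_11 : T.rot 5 [6, 8, 12, 1, 2, 3, 4] (sel (ones 14080) ip5 11) = true := by decide +kernel

theorem rot5_11r : band (Rule.ok (2 * 9) EX RL ⟨5 :: [6, 8, 12, 1, 2, 3, 4], [], 38, false⟩) (lall (memL L) [6, 8, 12, 1, 2, 3, 4]) = true := by decide +kernel

theorem rot5_12 : T.rot 5 [4, 2, 3, 4, 11, 9, 8, 4, 6] (sel (ones 14080) ip5 12) = true := by decide +kernel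

theorem rot5_12r : band (Rule.ok (2 * 9) EX RL ⟨5 :: [4, 2, 3, 4, 11, 9, 8, 4, 6], [], 38, false⟩) (lall (memL L) [4, 2, 3, 4, 11, 9, 8, 4, 6]) = true := by decide +kernel

theorem rot5_13 : T.rot 5 [6, 4, 8, 9, 10, 4, 3, 2, 4] (sel (ones 14080) ip5 13) = true := by decide +kernel

theorem rot5_13r : band (Rule.ok (2 * 9) EX RL ⟨5 :: [6, 4, 8, 9, 10, 4, 3, 2, 4], [], 38, false⟩) (lall (memL L) [6, 4, 8, 9, 10, 4, 3, 2, 4]) = true := by decide +kernel

theorem cov5 : T.cover 5 [(sel (ones 14080) ip5 1), (sel (ones 14080) ip5 2), (sel (ones 14080) ip5 3), (sel (ones 14080) ip5 4), (sel (ones 14080) ip5 5), (sel (ones 14080) ip5 6), (sel (ones 14080) ip5 7), (sel (ones 14080) ip5 8), (sel (ones 14080) ip5 9), (sel (ones 14080) ip5 10), (sel (ones 14080) ip5 11), (sel (ones 14080) ip5 12), (sel (ones 14080) ip5 13), 1] = true := by decide +kernel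

theorem tl5 : T.treeLt 14 5 = true := by decide +kernel

theorem rot6_1 : T.rot 6 [6] (sel (ones 14080) ip6 1) = true := by decide +kernel

theorem rot6_1r : band (Rule.ok (2 * 9) EX RL ⟨6 :: [6], [], 38, false⟩) (lall (memL L) [6]) = true := by decide +kernel

theorem rot6_2 : T.rot 6 [1, 6, 1] (sel (ones 14080) ip6 2) = true := by decide +kernel

theorem rot6_2r : band (Rule.ok (2 * 9) EX RL ⟨6 :: [1, 6, 1], [], 4, true⟩) (lall (memL L) [1, 6, 1]) = true := by decide +kernel

theorem rot6_3 : T.rot 6 [2, 6, 2] (sel (ones 14080) ip6 3) = true := by decide +kernel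

theorem rot6_3r : band (Rule.ok (2 * 9) EX RL ⟨6 :: [2, 6, 2], [], 11, true⟩) (lall (memL L) [2, 6, 2]) = true := by decide +kernel

theorem rot6_4 : T.rot 6 [3, 6, 3] (sel (ones 14080) ip6 4) = true := by decide +kernel

theorem rot6_4r : band (Rule.ok (2 * 9) EX RL ⟨6 :: [3, 6, 3], [], 17, true⟩) (lall (memL L) [3, 6, 3]) = true := by decide +kernel

theorem rot6_5 : T.rot 6 [4, 6, 4] (sel (ones 14080) ip6 5) = true := by decide +kernel

theorem rot6_5r : band (Rule.ok (2 * 9) EX RL ⟨6 :: [4, 6, 4], [], 22, true⟩) (lall (memL L) [4, 6, 4]) = true := by decide +kernel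

theorem rot6_6 : T.rot 6 [8, 6, 8] (sel (ones 14080) ip6 6) = true := by decide +kernel

theorem rot6_6r : band (Rule.ok (2 * 9) EX RL ⟨6 :: [8, 6, 8], [], 31, false⟩) (lall (memL L) [8, 6, 8]) = true := by decide +kernel

theorem rot6_7 : T.rot 6 [9, 6, 9] (sel (ones 14080) ip6 7) = true := by decide +kernel

theorem rot6_7r : band (Rule.ok (2 * 9) EX RL ⟨6 :: [9, 6, 9], [], 32, false⟩) (lall (memL L) [9, 6, 9]) = true := by decide +kernel

theorem rot6_8 : T.rot 6 [5, 6, 5, 6, 5] (sel (ones 14080) ip6 8) = true := by decide +kernel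

theorem rot6_8r : band (Rule.ok (2 * 9) EX RL ⟨6 :: [5, 6, 5, 6, 5], [], 26, true⟩) (lall (memL L) [5, 6, 5, 6, 5]) = true := by decide +kernel

theorem rot6_9 : T.rot 6 [7, 6, 7, 6, 7] (sel (ones 14080) ip6 9) = true := by decide +kernel

theorem rot6_9r : band (Rule.ok (2 * 9) EX RL ⟨6 :: [7, 6, 7, 6, 7], [], 30, false⟩) (lall (memL L) [7, 6, 7, 6, 7]) = true := by decide +kernel

theorem rot6_10 : T.rot 6 [5, 4, 3, 2, 1, 13, 8] (sel (ones 14080) ip6 10) = true := by decide +kernel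

theorem rot6_10r : band (Rule.ok (2 * 9) EX RL ⟨6 :: [5, 4, 3, 2, 1, 13, 8], [], 38, false⟩) (lall (memL L) [5, 4, 3, 2, 1, 13, 8]) = true := by decide +kernel

theorem rot6_11 : T.rot 6 [8, 12, 1, 2, 3, 4, 5] (sel (ones 14080) ip6 11) = true := by decide +kernel

theorem rot6_11r : band (Rule.ok (2 * 9) EX RL ⟨6 :: [8, 12, 1, 2, 3, 4, 5], [], 38, false⟩) (lall (memL L) [8, 12, 1, 2, 3, 4, 5]) = true := by decide +kernel

theorem rot6_12 : T.rot 6 [5, 4, 2, 3, 4, 11, 9, 8, 4] (sel (ones 14080) ip6 12) = true := by decide +kernel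

theorem rot6_12r : band (Rule.ok (2 * 9) EX RL ⟨6 :: [5, 4, 2, 3, 4, 11, 9, 8, 4], [], 38, false⟩) (lall (memL L) [5, 4, 2, 3, 4, 11, 9, 8, 4]) = true := by decide +kernel

theorem rot6_13 : T.rot 6 [4, 8, 9, 10, 4, 3, 2, 4, 5] (sel (ones 14080) ip6 13) = true := by decide +kernel

theorem rot6_13r : band (Rule.ok (2 * 9) EX RL ⟨6 :: [4, 8, 9, 10, 4, 3, 2, 4, 5], [], 38, false⟩) (lall (memL L) [4, 8, 9, 10, 4, 3, 2, 4, 5]) = true := by decide +kernel

theorem cov6 : T.cover 6 [(sel (ones 14080) ip6 1), (sel (ones 14080) ip6 2), (sel (ones 14080) ip6 3), (sel (ones 14080) ip6 4), (sel (ones 14080) ip6 5), (sel (ones 14080) ip6 6), (sel (ones 14080) ip6 7), (sel (ones 14080) ip6 8), (sel (ones 14080) ip6 9), (sel (ones 14080) ip6 10), (sel (ones 14080) ip6 11), (sel (ones 14080) ip6 12), (sel (ones 14080) ip6 13), 1] = true := by decide +kernel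

theorem tl6 : T.treeLt 14 6 = true := by decide +kernel

theorem rot7_1 : T.rot 7 [7] (sel (ones 14080) ip7 1) = true := by decide +kernel

theorem rot7_1r : band (Rule.ok (2 * 9) EX RL ⟨7 :: [7], [], 38, false⟩) (lall (memL L) [7]) = true := by decide +kernel

theorem rot7_2 : T.rot 7 [1, 7, 1] (sel (ones 14080) ip7 2) = true := by decide +kernel

theorem rot7_2r : band (Rule.ok (2 * 9) EX RL ⟨7 :: [1, 7, 1], [], 5, true⟩) (lall (memL L) [1, 7, 1]) = true := by decide +kernel

theorem rot7_3 : T.rot 7 [2, 7, 2] (sel (ones 14080) ip7 3) = true := by decide +kernel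

theorem rot7_3r : band (Rule.ok (2 * 9) EX RL ⟨7 :: [2, 7, 2], [], 12, true⟩) (lall (memL L) [2, 7, 2]) = true := by decide +kernel

theorem rot7_4 : T.rot 7 [3, 7, 3] (sel (ones 14080) ip7 4) = true := by decide +kernel

theorem rot7_4r : band (Rule.ok (2 * 9) EX RL ⟨7 :: [3, 7, 3], [], 18, true⟩) (lall (memL L) [3, 7, 3]) = true := by decide +kernel

theorem rot7_5 : T.rot 7 [4, 7, 4] (sel (ones 14080) ip7 5) = true := by decide +kernel

theorem rot7_5r : band (Rule.ok (2 * 9) EX RL ⟨7 :: [4, 7, 4], [], 23, true⟩) (lall (memL L) [4, 7, 4]) = true := by decide +kernel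

theorem rot7_6 : T.rot 7 [5, 7, 5] (sel (ones 14080) ip7 6) = true := by decide +kernel

theorem rot7_6r : band (Rule.ok (2 * 9) EX RL ⟨7 :: [5, 7, 5], [], 27, true⟩) (lall (memL L) [5, 7, 5]) = true := by decide +kernel

theorem rot7_7 : T.rot 7 [8, 7, 8] (sel (ones 14080) ip7 7) = true := by decide +kernel

theorem rot7_7r : band (Rule.ok (2 * 9) EX RL ⟨7 :: [8, 7, 8], [], 33, false⟩) (lall (memL L) [8, 7, 8]) = true := by decide +kernel

theorem rot7_8 : T.rot 7 [9, 7, 9] (sel (ones 14080) ip7 8) = true := by decide +kernel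

theorem rot7_8r : band (Rule.ok (2 * 9) EX RL ⟨7 :: [9, 7, 9], [], 34, false⟩) (lall (memL L) [9, 7, 9]) = true := by decide +kernel

theorem rot7_9 : T.rot 7 [6, 7, 6, 7, 6] (sel (ones 14080) ip7 9) = true := by decide +kernel

theorem rot7_9r : band (Rule.ok (2 * 9) EX RL ⟨7 :: [6, 7, 6, 7, 6], [], 30, true⟩) (lall (memL L) [6, 7, 6, 7, 6]) = true := by decide +kernel

theorem cov7 : T.cover 7 [(sel (ones 14080) ip7 1), (sel (ones 14080) ip7 2), (sel (ones 14080) ip7 3), (sel (ones 14080) ip7 4), (sel (ones 14080) ip7 5), (sel (ones 14080) ip7 6), (sel (ones 14080) ip7 7), (sel (ones 14080) ip7 8), (sel (ones 14080) ip7 9), 1] = true := by decide +kernel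

theorem tl7 : T.treeLt 14 7 = true := by decide +kernel

theorem rot8_1 : T.rot 8 [8] (sel (ones 14080) ip8 1) = true := by decide +kernel

theorem rot8_1r : band (Rule.ok (2 * 9) EX RL ⟨8 :: [8], [], 38, false⟩) (lall (memL L) [8]) = true := by decide +kernel

theorem rot8_2 : T.rot 8 [1, 8, 1] (sel (ones 14080) ip8 2) = true := by decide +kernel

theorem rot8_2r : band (Rule.ok (2 * 9) EX RL ⟨8 :: [1, 8, 1], [], 6, true⟩) (lall (memL L) [1, 8, 1]) = true := by decide +kernel

theorem rot8_3 : T.rot 8 [2, 8, 2] (sel (ones 14080) ip8 3) = true := by decide +kernel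

theorem rot8_3r : band (Rule.ok (2 * 9) EX RL ⟨8 :: [2, 8, 2], [], 13, true⟩) (lall (memL L) [2, 8, 2]) = true := by decide +kernel

theorem rot8_4 : T.rot 8 [3, 8, 3] (sel (ones 14080) ip8 4) = true := by decide +kernel

theorem rot8_4r : band (Rule.ok (2 * 9) EX RL ⟨8 :: [3, 8, 3], [], 19, true⟩) (lall (memL L) [3, 8, 3]) = true := by decide +kernel

theorem rot8_5 : T.rot 8 [5, 8, 5] (sel (ones 14080) ip8 5) = true := by decide +kernel

theorem rot8_5r : band (Rule.ok (2 * 9) EX RL ⟨8 :: [5, 8, 5], [], 28, true⟩) (lall (memL L) [5, 8, 5]) = true := by decide +kernel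

theorem rot8_6 : T.rot 8 [6, 8, 6] (sel (ones 14080) ip8 6) = true := by decide +kernel

theorem rot8_6r : band (Rule.ok (2 * 9) EX RL ⟨8 :: [6, 8, 6], [], 31, true⟩) (lall (memL L) [6, 8, 6]) = true := by decide +kernel

theorem rot8_7 : T.rot 8 [7, 8, 7] (sel (ones 14080) ip8 7) = true := by decide +kernel

theorem rot8_7r : band (Rule.ok (2 * 9) EX RL ⟨8 :: [7, 8, 7], [], 33, true⟩) (lall (memL L) [7, 8, 7]) = true := by decide +kernel

theorem rot8_8 : T.rot 8 [4, 8, 4, 8, 4] (sel (ones 14080) ip8 8) = true := by decide +kernel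

theorem rot8_8r : band (Rule.ok (2 * 9) EX RL ⟨8 :: [4, 8, 4, 8, 4], [], 24, true⟩) (lall (memL L) [4, 8, 4, 8, 4]) = true := by decide +kernel

theorem rot8_9 : T.rot 8 [9, 8, 9, 8, 9] (sel (ones 14080) ip8 9) = true := by decide +kernel

theorem rot8_9r : band (Rule.ok (2 * 9) EX RL ⟨8 :: [9, 8, 9, 8, 9], [], 35, false⟩) (lall (memL L) [9, 8, 9, 8, 9]) = true := by decide +kernel

theorem rot8_10 : T.rot 8 [6, 5, 4, 3, 2, 1, 13] (sel (ones 14080) ip8 10) = true := by decide +kernel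

theorem rot8_10r : band (Rule.ok (2 * 9) EX RL ⟨8 :: [6, 5, 4, 3, 2, 1, 13], [], 38, false⟩) (lall (memL L) [6, 5, 4, 3, 2, 1, 13]) = true := by decide +kernel

theorem rot8_11 : T.rot 8 [12, 1, 2, 3, 4, 5, 6] (sel (ones 14080) ip8 11) = true := by decide +kernel

theorem rot8_11r : band (Rule.ok (2 * 9) EX RL ⟨8 :: [12, 1, 2, 3, 4, 5, 6], [], 38, false⟩) (lall (memL L) [12, 1, 2, 3, 4, 5, 6]) = true := by decide +kernel

theorem rot8_12 : T.rot 8 [4, 6, 5, 4, 2, 3, 4, 11, 9] (sel (ones 14080) ip8 12) = true := by decide +kernel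

theorem rot8_12r : band (Rule.ok (2 * 9) EX RL ⟨8 :: [4, 6, 5, 4, 2, 3, 4, 11, 9], [], 38, false⟩) (lall (memL L) [4, 6, 5, 4, 2, 3, 4, 11, 9]) = true := by decide +kernel

theorem rot8_13 : T.rot 8 [9, 10, 4, 3, 2, 4, 5, 6, 4] (sel (ones 14080) ip8 13) = true := by decide +kernel

theorem rot8_13r : band (Rule.ok (2 * 9) EX RL ⟨8 :: [9, 10, 4, 3, 2, 4, 5, 6, 4], [], 38, false⟩) (lall (memL L) [9, 10, 4, 3, 2, 4, 5, 6, 4]) = true := by decide +kernel

theorem cov8 : T.cover 8 [(sel (ones 14080) ip8 1), (sel (ones 14080) ip8 2), (sel (ones 14080) ip8 3), (sel (ones 14080) ip8 4), (sel (ones 14080) ip8 5), (sel (ones 14080) ip8 6), (sel (ones 14080) ip8 7), (sel (ones 14080) ip8 8), (sel (ones 14080) ip8 9), (sel (ones 14080) ip8 10), (sel (ones 14080) ip8 11), (sel (ones 14080) ip8 12), (sel (ones 14080) ip8 13), 1] = true := by decide +kernel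

theorem tl8 : T.treeLt 14 8 = true := by decide +kernel

theorem rot9_1 : T.rot 9 [9] (sel (ones 14080) ip9 1) = true := by decide +kernel

theorem rot9_1r : band (Rule.ok (2 * 9) EX RL ⟨9 :: [9], [], 38, false⟩) (lall (memL L) [9]) = true := by decide +kernel

theorem rot9_2 : T.rot 9 [1, 9, 1] (sel (ones 14080) ip9 2) = true := by decide +kernel

theorem rot9_2r : band (Rule.ok (2 * 9) EX RL ⟨9 :: [1, 9, 1], [], 7, true⟩) (lall (memL L) [1, 9, 1]) = true := by decide +kernel

theorem rot9_3 : T.rot 9 [2, 9, 2] (sel (ones 14080) ip9 3) = true := by decide +kernel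

theorem rot9_3r : band (Rule.ok (2 * 9) EX RL ⟨9 :: [2, 9, 2], [], 14, true⟩) (lall (memL L) [2, 9, 2]) = true := by decide +kernel

theorem rot9_4 : T.rot 9 [3, 9, 3] (sel (ones 14080) ip9 4) = true := by decide +kernel

theorem rot9_4r : band (Rule.ok (2 * 9) EX RL ⟨9 :: [3, 9, 3], [], 20, true⟩) (lall (memL L) [3, 9, 3]) = true := by decide +kernel

theorem rot9_5 : T.rot 9 [4, 9, 4] (sel (ones 14080) ip9 5) = true := by decide +kernel

theorem rot9_5r : band (Rule.ok (2 * 9) EX RL ⟨9 :: [4, 9, 4], [], 25, true⟩) (lall (memL L) [4, 9, 4]) = true := by decide +kernel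

theorem rot9_6 : T.rot 9 [5, 9, 5] (sel (ones 14080) ip9 6) = true := by decide +kernel

theorem rot9_6r : band (Rule.ok (2 * 9) EX RL ⟨9 :: [5, 9, 5], [], 29, true⟩) (lall (memL L) [5, 9, 5]) = true := by decide +kernel

theorem rot9_7 : T.rot 9 [6, 9, 6] (sel (ones 14080) ip9 7) = true := by decide +kernel

theorem rot9_7r : band (Rule.ok (2 * 9) EX RL ⟨9 :: [6, 9, 6], [], 32, true⟩) (lall (memL L) [6, 9, 6]) = true := by decide +kernel

theorem rot9_8 : T.rot 9 [7, 9, 7] (sel (ones 14080) ip9 8) = true := by decide +kernel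

theorem rot9_8r : band (Rule.ok (2 * 9) EX RL ⟨9 :: [7, 9, 7], [], 34, true⟩) (lall (memL L) [7, 9, 7]) = true := by decide +kernel

theorem rot9_9 : T.rot 9 [8, 9, 8, 9, 8] (sel (ones 14080) ip9 9) = true := by decide +kernel

theorem rot9_9r : band (Rule.ok (2 * 9) EX RL ⟨9 :: [8, 9, 8, 9, 8], [], 35, true⟩) (lall (memL L) [8, 9, 8, 9, 8]) = true := by decide +kernel

theorem rot9_10 : T.rot 9 [8, 4, 6, 5, 4, 2, 3, 4, 11] (sel (ones 14080) ip9 10) = true := by decide +kernel

theorem rot9_10r : band (Rule.ok (2 * 9) EX RL ⟨9 :: [8, 4, 6, 5, 4, 2, 3, 4, 11], [], 38, false⟩) (lall (memL L) [8, 4, 6, 5, 4, 2, 3, 4, 11]) = true := by decide +kernel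

theorem rot9_11 : T.rot 9 [10, 4, 3, 2, 4, 5, 6, 4, 8] (sel (ones 14080) ip9 11) = true := by decide +kernel

theorem rot9_11r : band (Rule.ok (2 * 9) EX RL ⟨9 :: [10, 4, 3, 2, 4, 5, 6, 4, 8], [], 38, false⟩) (lall (memL L) [10, 4, 3, 2, 4, 5, 6, 4, 8]) = true := by decide +kernel

theorem cov9 : T.cover 9 [(sel (ones 14080) ip9 1), (sel (ones 14080) ip9 2), (sel (ones 14080) ip9 3), (sel (ones 14080) ip9 4), (sel (ones 14080) ip9 5), (sel (ones 14080) ip9 6), (sel (ones 14080) ip9 7), (sel (ones 14080) ip9 8), (sel (ones 14080) ip9 9), (sel (ones 14080) ip9 10), (sel (ones 14080) ip9 11), 1] = true := by decide +kernel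

theorem tl9 : T.treeLt 14 9 = true := by decide +kernel

theorem rot10_1 : T.rot 10 [10, 10, 10, 10, 10, 10, 10, 10, 10] (sel (ones 14080) ip10 1) = true := by decide +kernel

theorem rot10_1r : band (Rule.ok (2 * 9) EX RL ⟨10 :: [10, 10, 10, 10, 10, 10, 10, 10, 10], [], 36, true⟩) (lall (memL L) [10, 10, 10, 10, 10, 10, 10, 10, 10]) = true := by decide +kernel

theorem rot10_2 : T.rot 10 [4, 3, 2, 4, 5, 6, 4, 8, 9] (sel (ones 14080) ip10 2) = true := by decide +kernel

theorem rot10_2r : band (Rule.ok (2 * 9) EX RL ⟨10 :: [4, 3, 2, 4, 5, 6, 4, 8, 9], [], 38, false⟩) (lall (memL L) [4, 3, 2, 4, 5, 6, 4, 8, 9]) = true := by decide +kernel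

theorem cov10 : T.cover 10 [(sel (ones 14080) ip10 1), (sel (ones 14080) ip10 2)] = true := by decide +kernel

theorem tl10 : Nat.beq (T.let 10).tt 0 = true := by decide +kernel

theorem rot11_1 : T.rot 11 [11, 11, 11, 11, 11, 11, 11, 11, 11] (sel (ones 14080) ip11 1) = true := by decide +kernel

theorem rot11_1r : band (Rule.ok (2 * 9) EX RL ⟨11 :: [11, 11, 11, 11, 11, 11, 11, 11, 11], [], 36, false⟩) (lall (memL L) [11, 11, 11, 11, 11, 11, 11, 11, 11]) = true := by decide +kernel

theorem rot11_2 : T.rot 11 [9, 8, 4, 6, 5, 4, 2, 3, 4] (sel (ones 14080) ip11 2) = true := by decide +kernel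

theorem rot11_2r : band (Rule.ok (2 * 9) EX RL ⟨11 :: [9, 8, 4, 6, 5, 4, 2, 3, 4], [], 38, false⟩) (lall (memL L) [9, 8, 4, 6, 5, 4, 2, 3, 4]) = true := by decide +kernel

theorem cov11 : T.cover 11 [(sel (ones 14080) ip11 1), (sel (ones 14080) ip11 2)] = true := by decide +kernel

theorem tl11 : Nat.beq (T.let 11).tt 0 = true := by decide +kernel

theorem rot12_1 : T.rot 12 [1, 2, 3, 4, 5, 6, 8] (sel (ones 14080) ip12 1) = true := by decide +kernel

theorem rot12_1r : band (Rule.ok (2 * 9) EX RL ⟨12 :: [1, 2, 3, 4, 5, 6, 8], [], 38, false⟩) (lall (memL L) [1, 2, 3, 4, 5, 6, 8]) = true := by decide +kernel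

theorem rot12_2 : T.rot 12 [12, 12, 12, 12, 12, 12, 12, 12] (sel (ones 14080) ip12 2) = true := by decide +kernel

theorem rot12_2r : band (Rule.ok (2 * 9) EX RL ⟨12 :: [12, 12, 12, 12, 12, 12, 12, 12], [], 37, true⟩) (lall (memL L) [12, 12, 12, 12, 12, 12, 12, 12]) = true := by decide +kernel

theorem cov12 : T.cover 12 [(sel (ones 14080) ip12 1), (sel (ones 14080) ip12 2)] = true := by decide +kernel

theorem tl12 : Nat.beq (T.let 12).tt 0 = true := by decide +kernel

theorem rot13_1 : T.rot 13 [8, 6, 5, 4, 3, 2, 1] (sel (ones 14080) ip13 1) = true := by decide +kernel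

theorem rot13_1r : band (Rule.ok (2 * 9) EX RL ⟨13 :: [8, 6, 5, 4, 3, 2, 1], [], 38, false⟩) (lall (memL L) [8, 6, 5, 4, 3, 2, 1]) = true := by decide +kernel

theorem rot13_2 : T.rot 13 [13, 13, 13, 13, 13, 13, 13, 13] (sel (ones 14080) ip13 2) = true := by decide +kernel

theorem rot13_2r : band (Rule.ok (2 * 9) EX RL ⟨13 :: [13, 13, 13, 13, 13, 13, 13, 13], [], 37, false⟩) (lall (memL L) [13, 13, 13, 13, 13, 13, 13, 13]) = true := by decide +kernel

theorem cov13 : T.cover 13 [(sel (ones 14080) ip13 1), (sel (ones 14080) ip13 2)] = true := by decide +kernel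

theorem tl13 : Nat.beq (T.let 13).tt 0 = true := by decide +kernel

end Cfsg.Agent.Spor.Fi14080
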