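import Cfsg.Agent.Spor.Fi22G
import Cfsg.Agent.Spor.Prim
import Cfsg.Agent.Spor.Fi14080.Main

set_option autoImplicit false
set_option maxRecDepth 100000

namespace Cfsg.Agent.Spor.Fi14080

open Cfsg.Spor Cfsg.Spor.Fi22

theorem hom : ∃ φ : Fi22 →* Equiv.Perm ℕ, ∀ j < 9, φ (Fi22G.f j) = fP j := Fi22G.hom (cert.pres.append xrel)

noncomputable def φ : Fi22 →* Equiv.Perm ℕ := hom.choose

theorem hφ : ∀ j < 9, φ (Fi22G.f j) = fP j := hom.choose_spec

abbrev H : Subgroup Fi22 := wsub 9 Fi22G.f BW

theorem act : CosetAct H φ 14080 := cert.act _ _ (Fi22G.pres.cons (H := [([], 0, true), ([], 1, true), ([], 2, true), ([], 3, true), ([], 4, true), ([], 5, true), ([], 6, true), ([], 7, true), ([], 8, true), ([], 9, true), ([], 10, true), ([], 11, true), ([], 12, true), ([], 13, true), ([], 14, true), ([], 15, true), ([], 16, true), ([], 17, true), ([], 18, true), ([], 19, true), ([], 20, true), ([], 21, true), ([], 22, true), ([], 23, true), ([], 24, true), ([], 25, true), ([], 26, true), ([], 27, true), ([], 28, true), ([], 29,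 true), ([], 30, true), ([], 31, true), ([], 32, true), ([], 33, true), ([], 34, true), ([], 35, true), ([], 36, true), ([], 37, true)]) (by decide +kernel)) φ hφ Fi22G.top

theorem Heq : (Subgroup.closure ({b, c, d, e, f, g, h, i} : Set (FreeGroup Gen))).map (PresentedGroup.mk Fi22G.rels) = H :=
  Fi22G.coded.map_closure (ws := [b, c, d, e, f, g, h, i]) (by simp) (by decide +kernel) (by decide +kernel)

theorem map_H : H.map φ = wsub 9 fP BW := wsub_map hφ BW

theorem range_φ : φ.range = gsub 9 fP := range_eq_gsub hφ Fi22G.top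

end Cfsg.Agent.Spor.Fi14080
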